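import Mathlib
import Cfsg.Agent.Lib.Kim.UH2

/-! PERM3 / S3219, S3262: two-point stabiliser `A₄` or `A₅`; definitions. -/

set_option autoImplicit false

namespace CfsgLib.Kim

open Subgroup MulAction CfsgLib.Perm

variable {G : Type*} {Ω : Type*} [Group G] [MulAction G Ω]

/-- type X: an involution interchanging `a`, `b` centralises `K = G_ab` -/
def TypX (G : Type*) {Ω : Type*} [Group G] [MulAction G Ω] (a b : Ω) : Prop :=
  ∃ I : G, I * I = 1 ∧ I • a = b ∧ I • b = a ∧ ∀ k ∈ stab2 G a b, I * k = k * I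

/-- type Y: the stabiliser of `{a, b}` is `S₄` or `S₅` -/
structure TypY (a b : Ω) (τ v : G) (γ : ℕ) : Prop where
  conj : ∀ s u : G, s * s = 1 → s • a = b → s • b = a → u * u = 1 → u • a = b → u • b = a →
    ∃ k ∈ stab2 G a b, k * s * k⁻¹ = u
  card : (sw {s : G | s * s = 1} a b).ncard = if γ = 3 then 6 else 10
  ex : ∃ I : G, I * I = 1 ∧ I • a = b ∧ I • b = a ∧ I * τ = τ * I ∧ I * v * I⁻¹ = τ * v

/-- `K = G_ab` is `A₄` (`γ = 3`) or `A₅` (`γ = 15`), `V = {1, τ, v, τ v}` is a Sylow 2-subgroup of `K` -/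
structure AH (a b : Ω) (τ v : G) (γ : ℕ) : Prop where
  two : IsMultiplyPretransitive G Ω 2
  faith : FaithfulSMul G Ω
  hab : a ≠ b
  τK : τ ∈ stab2 G a b
  vK : v ∈ stab2 G a b
  oτ : orderOf τ = 2
  ov : orderOf v = 2
  ne : τ ≠ v
  comm : τ * v = v * τ
  cent : ∀ k ∈ stab2 G a b, k * τ = τ * k → k = 1 ∨ k = τ ∨ k = v ∨ k = τ * v
  conjK : ∀ s ∈ stab2 G a b, s * s = 1 → s ≠ 1 → ∃ k ∈ stab2 G a b, k * τ * k⁻¹ = s
  rho : ∃ ρ ∈ stab2 G a b, ρ * τ * ρ⁻¹ = v ∧ ρ * v * ρ⁻¹ = τ * v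
  cardK : Nat.card (stab2 G a b) = 4 * γ
  gam : γ = 3 ∨ γ = 15
  typ : TypX G a b ∨ TypY a b τ v γ

/-- `N_{C(τ)}(V)` -/
def NV (τ v : G) (hτ : τ * τ = 1) : Subgroup G where
  carrier := {g | g * τ = τ * g ∧ (g * v * g⁻¹ = v ∨ g * v * g⁻¹ = τ * v)}
  one_mem' := ⟨by simp, Or.inl (by simp)⟩
  mul_mem' := by
    rintro g h ⟨e1, e2⟩ ⟨e3, e4⟩
    have e5 : g * τ * g⁻¹ = τ := by rw [e1, mul_inv_cancel_right]
    refine ⟨by rw [mul_assoc, e3, ← mul_assoc, e1, mul_assoc], ?_⟩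
    have e6 : g * h * v * (g * h)⁻¹ = g * (h * v * h⁻¹) * g⁻¹ := by group
    have e7 : g * (τ * v) * g⁻¹ = τ * (g * v * g⁻¹) := by
      rw [← mul_assoc, e1]; group
    rcases e4 with e4 | e4 <;> rw [e6, e4]
    · exact e2
    · rw [e7]
      rcases e2 with e2 | e2 <;> rw [e2]
      · exact Or.inr rfl
      · exact Or.inl (by rw [← mul_assoc, hτ, one_mul])
  inv_mem' := by
    rintro g ⟨e1, e2⟩
    have e3 : g⁻¹ * τ = τ * g⁻¹ := by rw [inv_mul_eq_iff_eq_mul, ← mul_assoc, e1]; group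
    refine ⟨e3, e2.imp (fun e => ?_) fun e => ?_⟩
    · conv_lhs => rw [← e]
      group
    · have : v = τ * (g * v * g⁻¹) := by rw [e, ← mul_assoc, hτ, one_mul]
      conv_lhs => rw [this]
      rw [← mul_assoc, ← mul_assoc, e3]; group

end CfsgLib.Kim
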