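import Mathlib
import Cfsg.Agent.Lib.Kim.AH
import Cfsg.Agent.Lib.AltAut.Basic

/-! PERM3 / S3219, S3262: the set-up from `G_ab ≅ A₄, A₅`. -/

set_option autoImplicit false
set_option linter.unusedSectionVars false

namespace CfsgLib.Kim

open Subgroup MulAction CfsgLib.Perm Equiv

/-- the facts on `S₄`, `S₅` which are used -/
structure SymD {n : ℕ} (t w r s : Perm (Fin n)) (γ : ℕ) : Prop where
  ev : Perm.sign t = 1 ∧ Perm.sign w = 1 ∧ Perm.sign r = 1 ∧ Perm.sign s = -1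
  sq : t * t = 1 ∧ t ≠ 1 ∧ w * w = 1 ∧ w ≠ 1 ∧ t ≠ w ∧ t * w = w * t
  rho : r * t * r⁻¹ = w ∧ r * w * r⁻¹ = t * w
  ex : s * s = 1 ∧ s * t * s⁻¹ = t ∧ s * w * s⁻¹ = t * w
  cent : ∀ k : Perm (Fin n), Perm.sign k = 1 → k * t = t * k → k = 1 ∨ k = t ∨ k = w ∨ k = t * w
  conjK : ∀ x : Perm (Fin n), Perm.sign x = 1 → x * x = 1 → x ≠ 1 →
    ∃ k : Perm (Fin n), Perm.sign k = 1 ∧ k * t * k⁻¹ = x
  conjO : ∀ x : Perm (Fin n), Perm.sign x = -1 → x * x = 1 →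
    ∃ k : Perm (Fin n), Perm.sign k = 1 ∧ k * s * k⁻¹ = x
  card : (Finset.univ.filter fun x : Perm (Fin n) => Perm.sign x = -1 ∧ x * x = 1).card =
    if γ = 3 then 6 else 10
  cardA : Nat.card (alternatingGroup (Fin n)) = 4 * γ
  gam : γ = 3 ∨ γ = 15

theorem symD4 : SymD (n := 4) (swap 0 1 * swap 2 3) (swap 0 2 * swap 1 3) (swap 1 3 * swap 1 2) (swap 0 1) 3 :=
  ⟨by decide +kernel, by decide +kernel, by decide +kernel, by decide +kernel, by decide +kernel,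
    by decide +kernel, by decide +kernel, by decide +kernel, by
      rw [nat_card_alternatingGroup]; simp [Nat.factorial], Or.inl rfl⟩

theorem symD5 : SymD (n := 5) (swap 0 1 * swap 2 3) (swap 0 2 * swap 1 3) (swap 1 3 * swap 1 2) (swap 0 1) 15 :=
  ⟨by decide +kernel, by decide +kernel, by decide +kernel, by decide +kernel, by decide +kernel,
    by decide +kernel, by decide +kernel, by decide +kernel, by
      rw [nat_card_alternatingGroup]; simp [Nat.factorial], Or.inr rfl⟩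

variable {G : Type*} {Ω : Type*} [Group G] [MulAction G Ω] [Finite G] [Finite Ω] [FaithfulSMul G Ω]

theorem exists_AH_gen (h2 : IsMultiplyPretransitive G Ω 2) {a b : Ω} (hab : a ≠ b) {n : ℕ}
    (h4 : 4 ≤ n) (h6 : n ≠ 6) (e : stab2 G a b ≃* alternatingGroup (Fin n))
    {t w r s : Perm (Fin n)} {γ : ℕ} (d : SymD t w r s γ) : ∃ τ v : G, AH a b τ v γ := by
  have n4 : 4 ≤ Nat.card (Fin n) := by simpa using h4
  let φ : stab2 G a b →* Perm (Fin n) := (alternatingGroup (Fin n)).subtype.comp e.toMonoidHom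
  have φi : Function.Injective φ := Subtype.val_injective.comp e.injective
  have φe : ∀ k, Perm.sign (φ k) = 1 := fun k => (e k).2
  have φs : ∀ x : Perm (Fin n), Perm.sign x = 1 → ∃ k, φ k = x := fun x hx =>
    ⟨e.symm ⟨x, hx⟩, congrArg Subtype.val (e.apply_symm_apply _)⟩
  obtain ⟨τ, hτ⟩ := φs t d.ev.1
  obtain ⟨v, hv⟩ := φs w d.ev.2.1
  obtain ⟨ρ, hρ⟩ := φs r d.ev.2.2.1
  have val : ∀ {k l : stab2 G a b}, φ k = φ l → k.1 = l.1 := fun h => congrArg Subtype.val (φi h)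
  have ττ : τ.1 * τ.1 = 1 := val (k := τ * τ) (l := 1) (by rw [map_mul, map_one, hτ, d.sq.1])
  have τ1 : τ.1 ≠ 1 := fun h => d.sq.2.1 (by rw [← hτ, (Subtype.ext h : τ = 1), map_one])
  have vv : v.1 * v.1 = 1 := val (k := v * v) (l := 1) (by rw [map_mul, map_one, hv, d.sq.2.2.1])
  have v1 : v.1 ≠ 1 := fun h => d.sq.2.2.2.1 (by rw [← hv, (Subtype.ext h : v = 1), map_one])
  refine ⟨τ, v, h2, inferInstance, hab, τ.2, v.2, orderOf_eq_prime (by rw [sq, ττ]) τ1,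
    orderOf_eq_prime (by rw [sq, vv]) v1,
    fun h => d.sq.2.2.2.2.1 (by rw [← hτ, ← hv, (Subtype.ext h : τ = v)]),
    val (k := τ * v) (l := v * τ) (by rw [map_mul, map_mul, hτ, hv, d.sq.2.2.2.2.2]),
    fun k hk h => ?_, fun x hx h h1 => ?_, ⟨ρ, ρ.2,
      val (k := ρ * τ * ρ⁻¹) (by rw [map_mul, map_mul, map_inv, hρ, hτ, hv, d.rho.1]),
      val (k := ρ * v * ρ⁻¹) (l := τ * v) (by rw [map_mul, map_mul, map_inv, map_mul, hρ, hτ, hv, d.rho.2])⟩,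
    (Nat.card_congr e.toEquiv).trans d.cardA, d.gam, ?_⟩
  · have h1 : φ ⟨k, hk⟩ * t = t * φ ⟨k, hk⟩ := by
      rw [← hτ, ← map_mul, ← map_mul]
      exact congrArg φ (Subtype.ext h)
    rcases d.cent _ (φe _) h1 with h3 | h3 | h3 | h3
    · exact Or.inl (val (k := ⟨k, hk⟩) (l := 1) (by rw [h3, map_one]))
    · exact Or.inr (Or.inl (val (k := ⟨k, hk⟩) (h3.trans hτ.symm)))
    · exact Or.inr (Or.inr (Or.inl (val (k := ⟨k, hk⟩) (h3.trans hv.symm))))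
    · exact Or.inr (Or.inr (Or.inr (val (k := ⟨k, hk⟩) (l := τ * v) (by rw [h3, map_mul, hτ, hv]))))
  · obtain ⟨y, hy, h3⟩ := d.conjK (φ ⟨x, hx⟩) (φe _)
      (by rw [← map_mul, show (⟨x, hx⟩ * ⟨x, hx⟩ : stab2 G a b) = 1 from Subtype.ext h, map_one])
      (fun h3 => h1 (val (k := ⟨x, hx⟩) (l := 1) (by rw [h3, map_one])))
    obtain ⟨k, rfl⟩ := φs y hy
    exact ⟨k, k.2, val (k := k * τ * k⁻¹) (l := ⟨x, hx⟩) (by rw [map_mul, map_mul, map_inv, hτ, h3])⟩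
  obtain ⟨c, hc⟩ := exists_moved (Ω := Ω) τ1
  obtain ⟨g, ha, hb⟩ := exists_conj_sw h2 hab ττ hc
  have II := conj_mul_self ττ g
  generalize g * τ.1 * g⁻¹ = I at ha hb II
  have Ii : I⁻¹ = I := inv_eq_of_mul_eq_one_right II
  let cI : stab2 G a b →* stab2 G a b := ((MulAut.conj I).toMonoidHom.comp (stab2 G a b).subtype).codRestrict _
    fun k => conj_mem_stab2_of_swap ha hb k.2
  have hcI : ∀ k, (cI k).1 = I * k.1 * I⁻¹ := fun _ => rfl
  have cI2 : ∀ k, cI (cI k) = k := fun k => Subtype.ext (by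
    rw [hcI, hcI, Ii, ← mul_assoc, ← mul_assoc, II, one_mul, mul_assoc, II, mul_one])
  obtain ⟨σ, hσ⟩ := (AltAut.conjNormal_bijective n4 (by simpa using h6)).2
    ((e.symm.trans (MulEquiv.ofBijective cI (Function.Involutive.bijective cI2))).trans e)
  have hσ' : ∀ k, φ (cI k) = σ * φ k * σ⁻¹ := fun k => by
    have := congrArg Subtype.val (DFunLike.congr_fun hσ (e k))
    simp only [MulEquiv.trans_apply, MulEquiv.symm_apply_apply, MulEquiv.ofBijective_apply,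
      MulAut.conjNormal_apply] at this
    exact this.symm
  have σσ : σ * σ = 1 := AltAut.eq_one_of_commute n4 fun x hx => by
    obtain ⟨k, rfl⟩ := φs x hx
    conv_rhs => rw [← cI2 k, hσ', hσ']
    group
  have σi : σ⁻¹ = σ := inv_eq_of_mul_eq_one_right σσ
  have swK : ∀ k : stab2 G a b, (k.1 * I) • a = b ∧ (k.1 * I) • b = a := fun k =>
    ⟨by rw [mul_smul, ha, k.2.2], by rw [mul_smul, hb, k.2.1]⟩
  rcases Int.units_eq_one_or (Perm.sign σ) with hs | hs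
  · left
    obtain ⟨m, hm⟩ := φs σ hs
    have hcm : ∀ k ∈ stab2 G a b, (m⁻¹).1 * I * k = k * ((m⁻¹).1 * I) := fun k hk => by
      have h1 : I * k * I⁻¹ = m * k * m⁻¹ := val (k := cI ⟨k, hk⟩) (l := m * (⟨k, hk⟩ : stab2 G a b) * m⁻¹)
        (by rw [hσ', map_mul, map_mul, map_inv, hm])
      rw [coe_inv, mul_assoc, mul_inv_eq_iff_eq_mul.1 h1]
      simp only [mul_assoc, inv_mul_cancel_left, coe_inv]
    refine ⟨(m⁻¹).1 * I, ?_, (swK _).1, (swK _).2, hcm⟩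
    have hK := mul_mem_stab2_of_swap (swK m⁻¹).1 (swK m⁻¹).2 (swK m⁻¹).1 (swK m⁻¹).2
    refine val (k := ⟨_, hK⟩) (l := 1) ((AltAut.eq_one_of_commute n4 fun x hx => ?_).trans (map_one φ).symm)
    obtain ⟨k, rfl⟩ := φs x hx
    rw [← map_mul, ← map_mul]
    refine congrArg φ (Subtype.ext ?_)
    show (m⁻¹).1 * I * ((m⁻¹).1 * I) * k = k * ((m⁻¹).1 * I * ((m⁻¹).1 * I))
    rw [mul_assoc, hcm k k.2, ← mul_assoc, hcm k k.2, mul_assoc]
  right
  have ex1 : ∀ u : G, u • a = b → u • b = a → ∃ k : stab2 G a b, u = k.1 * I := fun u h1 h3 =>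
    ⟨⟨_, mul_mem_stab2_of_swap h1 h3 ha hb⟩, by rw [mul_assoc, II, mul_one]⟩
  have ex2 : ∀ x : Perm (Fin n), Perm.sign x = -1 → ∃ k, φ k * σ = x := fun x hx => by
    obtain ⟨k, hk⟩ := φs (x * σ) (by rw [Perm.sign_mul, hx, hs]; simp)
    exact ⟨k, by rw [hk, mul_assoc, σσ, mul_one]⟩
  have odd : ∀ k, Perm.sign (φ k * σ) = -1 := fun k => by rw [Perm.sign_mul, φe, hs, one_mul]
  have sq2 : ∀ k : stab2 G a b, k.1 * I * (k.1 * I) = 1 ↔ φ k * σ * (φ k * σ) = 1 := fun k => by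
    have h1 : φ k * σ * (φ k * σ) = φ (k * cI k) := by rw [map_mul, hσ', σi]; group
    have h3 : k.1 * I * (k.1 * I) = (k * cI k).1 := by rw [coe_mul, hcI, Ii]; group
    rw [h1, h3, ← map_one φ, φi.eq_iff, Subtype.ext_iff, coe_one]
  have cj : ∀ k l m : stab2 G a b, φ m * (φ k * σ) * (φ m)⁻¹ = φ l * σ →
      m.1 * (k.1 * I) * m.1⁻¹ = l.1 * I := fun k l m h => by
    have h1 : φ (m * k * cI m⁻¹) = φ l := by
      rw [map_mul, map_mul, hσ', map_inv, ← mul_inv_eq_iff_eq_mul.2 h.symm.symm]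
      group
    have h3 : m.1 * k.1 * (I * m.1⁻¹ * I⁻¹) = l.1 := val h1
    rw [← h3]
    group
  have act : ∀ k l m : stab2 G a b, φ k * σ * φ l * (φ k * σ)⁻¹ = φ m →
      k.1 * I * l.1 * (k.1 * I)⁻¹ = m.1 := fun k l m h => by
    have h1 : φ (k * cI l * k⁻¹) = φ m := by
      rw [map_mul, map_mul, hσ', map_inv, ← h]
      group
    have h3 : k.1 * (I * l.1 * I⁻¹) * k.1⁻¹ = m.1 := val h1
    rw [← h3]
    group
  obtain ⟨k₀, hk₀⟩ := ex2 s d.ev.2.2.2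
  have toS : ∀ u : G, u * u = 1 → u • a = b → u • b = a →
      ∃ m : stab2 G a b, m.1 * (k₀.1 * I) * m.1⁻¹ = u := fun u h1 h3 h5 => by
    obtain ⟨k, rfl⟩ := ex1 u h3 h5
    obtain ⟨y, hy, h7⟩ := d.conjO _ (odd k) ((sq2 k).1 h1)
    obtain ⟨m, rfl⟩ := φs y hy
    exact ⟨m, cj k₀ k m (by rw [hk₀, h7])⟩
  refine ⟨fun x u h1 h3 h5 h7 h8 h9 => ?_, ?_, k₀.1 * I, (sq2 k₀).2 (by rw [hk₀, d.ex.1]), (swK _).1, (swK _).2,
    mul_inv_eq_iff_eq_mul.1 (act k₀ τ τ (by rw [hk₀, hτ, d.ex.2.1])),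
    act k₀ v (τ * v) (by rw [hk₀, map_mul, hτ, hv, d.ex.2.2])⟩
  · obtain ⟨m, rfl⟩ := toS x h1 h3 h5
    obtain ⟨l, rfl⟩ := toS u h7 h8 h9
    exact ⟨(l * m⁻¹).1, (l * m⁻¹).2, by rw [coe_mul, coe_inv]; group⟩
  · rw [← d.card, ← Set.ncard_coe_finset]
    refine Set.ncard_congr (fun u hu => φ ⟨u * I, mul_mem_stab2_of_swap hu.2.1 hu.2.2 ha hb⟩ * σ)
      (fun u hu => ?_) (fun u u' hu hu' h => mul_right_cancel (val (mul_right_cancel h))) fun x hx => ?_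
    · simp only [Finset.coe_filter, Finset.mem_univ, true_and, Set.mem_ofPred_eq]
      refine ⟨odd _, (sq2 _).1 ?_⟩
      show u * I * I * (u * I * I) = 1
      rw [mul_assoc u, II, mul_one]
      exact hu.1
    · simp only [Finset.coe_filter, Finset.mem_univ, true_and, Set.mem_ofPred_eq] at hx
      obtain ⟨k, rfl⟩ := ex2 x hx.1
      refine ⟨k.1 * I, ⟨(sq2 k).2 hx.2, swK k⟩, congrArg (fun y => φ y * σ) (Subtype.ext ?_)⟩
      show k.1 * I * I = k.1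
      rw [mul_assoc, II, mul_one]

theorem exists_AH4 (h2 : IsMultiplyPretransitive G Ω 2) {a b : Ω} (hab : a ≠ b)
    (e : stab2 G a b ≃* alternatingGroup (Fin 4)) : ∃ τ v : G, AH a b τ v 3 :=
  exists_AH_gen h2 hab le_rfl (by norm_num) e symD4

theorem exists_AH5 (h2 : IsMultiplyPretransitive G Ω 2) {a b : Ω} (hab : a ≠ b)
    (e : stab2 G a b ≃* alternatingGroup (Fin 5)) : ∃ τ v : G, AH a b τ v 15 :=
  exists_AH_gen h2 hab (by norm_num) (by norm_num) e symD5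

end CfsgLib.Kim
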