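import Mathlib
import Cfsg.Agent.Lib.Kim.AH
import Cfsg.Agent.Lib.Fgs.ConjCount

/-! PERM3 / S3219, S3262: the counts. -/

set_option autoImplicit false
set_option linter.unusedSectionVars false

namespace CfsgLib.Kim.AH

open Subgroup MulAction CfsgLib.Perm

variable {G : Type*} {Ω : Type*} [Group G] [MulAction G Ω] [Finite G] [Finite Ω]
  {a b : Ω} {τ v : G} {γ : ℕ} (h : AH a b τ v γ)
include h

theorem ττ : τ * τ = 1 := (orderOf_eq_two_iff'.1 h.oτ).1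

theorem τ1 : τ ≠ 1 := (orderOf_eq_two_iff'.1 h.oτ).2

theorem vv : v * v = 1 := (orderOf_eq_two_iff'.1 h.ov).1

theorem v1 : v ≠ 1 := (orderOf_eq_two_iff'.1 h.ov).2

theorem τv_sq : τ * v * (τ * v) = 1 := by
  rw [mul_assoc, ← mul_assoc v, ← h.comm, mul_assoc, h.vv, mul_one, h.ττ]

theorem τv1 : τ * v ≠ 1 := fun e => h.ne (by rw [← mul_one τ, ← h.vv, ← mul_assoc, e, one_mul])

theorem aF : a ∈ fixedBy Ω τ ∩ fixedBy Ω v := ⟨h.τK.1, h.vK.1⟩

theorem bF : b ∈ fixedBy Ω τ ∩ fixedBy Ω v := ⟨h.τK.2, h.vK.2⟩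

/-- an involution fixing two points is conjugate to `τ` -/
theorem conj_of_fix {s : G} (hs : s * s = 1) (h1 : s ≠ 1) {c d : Ω} (hcd : c ≠ d) (hc : s • c = c)
    (hd : s • d = d) : ∃ g : G, g • a = c ∧ g • b = d ∧ g * τ * g⁻¹ = s := by
  obtain ⟨g, ha, hb⟩ := exists_smul_pair h.two h.hab hcd
  obtain ⟨k, hk, e⟩ := h.conjK (g⁻¹ * s * g) ⟨by
      show _ • a = a
      rw [mul_smul, mul_smul, ha, hc, ← ha, inv_smul_smul], by
      show _ • b = b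
      rw [mul_smul, mul_smul, hb, hd, ← hb, inv_smul_smul]⟩ (by simpa using conj_mul_self hs g⁻¹)
    fun e => h1 (by simpa [mul_assoc] using congrArg (fun x => g * x * g⁻¹) e)
  exact ⟨g * k, by rw [mul_smul, hk.1, ha], by rw [mul_smul, hk.2, hb], by
    rw [show g * k * τ * (g * k)⁻¹ = g * (k * τ * k⁻¹) * g⁻¹ by group, e]; group⟩

theorem toC {c d : Ω} (hc : τ • c = c) (hd : τ • d = d) (hcd : c ≠ d) :
    ∃ g : G, g * τ = τ * g ∧ g • a = c ∧ g • b = d :=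
  let ⟨g, h1, h2, h3⟩ := h.conj_of_fix h.ττ h.τ1 hcd hc hd
  ⟨g, mul_inv_eq_iff_eq_mul.1 h3, h1, h2⟩

theorem tC : TT (centralizer ({τ} : Set G)) (fixedBy Ω τ) := by
  refine ⟨fun g hg x hx => smul_fix_of_comm (commC hg) hx, fun ha hb hc hd hab hcd => ?_⟩
  obtain ⟨g, h1, h2, h3⟩ := h.toC ha hb hab
  obtain ⟨g', h4, h5, h6⟩ := h.toC hc hd hcd
  exact ⟨g' * g⁻¹, mul_mem (memC h4) (inv_mem (memC h1)), by rw [mul_smul, ← h2, inv_smul_smul, h5],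
    by rw [mul_smul, ← h3, inv_smul_smul, h6]⟩

theorem cent' {g n : G} (hg : g * τ = τ * g) (hn : n * τ = τ * n) (e1 : g • n • a = n • a)
    (e2 : g • n • b = n • b) :
    n⁻¹ * g * n = 1 ∨ n⁻¹ * g * n = τ ∨ n⁻¹ * g * n = v ∨ n⁻¹ * g * n = τ * v :=
  h.cent _ ⟨show _ • a = a by rw [mul_smul, mul_smul, e1, inv_smul_smul],
    show _ • b = b by rw [mul_smul, mul_smul, e2, inv_smul_smul]⟩
    (commC (mul_mem (mul_mem (inv_mem (memC hn)) (memC hg)) (memC hn)))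

theorem toN {c d : Ω} (hc : c ∈ fixedBy Ω τ ∩ fixedBy Ω v) (hd : d ∈ fixedBy Ω τ ∩ fixedBy Ω v) (hcd : c ≠ d) :
    ∃ g ∈ NV τ v h.ττ, g • a = c ∧ g • b = d := by
  obtain ⟨g, h1, rfl, rfl⟩ := h.toC hc.1 hd.1 hcd
  refine ⟨g, inv_mem_iff.1 ⟨commC (inv_mem (memC h1)), ?_⟩, rfl, rfl⟩
  rw [inv_inv]
  rcases h.cent' h.comm.symm h1 hc.2 hd.2 with e | e | e
  · exact absurd (by simpa [mul_assoc] using congrArg (fun x => g * x * g⁻¹) e) h.v1
  · exact absurd (by simpa [mul_assoc, ← mul_assoc g τ, h1] using congrArg (fun x => g * x * g⁻¹) e.symm) h.ne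
  · exact e

theorem tN : TT (NV τ v h.ττ) (fixedBy Ω τ ∩ fixedBy Ω v) := by
  refine ⟨fun g hg x hx => ⟨smul_fix_of_comm hg.1 hx.1, ?_⟩, fun ha hb hc hd hab hcd => ?_⟩
  · have h1 : (g⁻¹ * v * g⁻¹⁻¹) • x = x := by
      rcases (inv_mem hg).2 with e | e <;> rw [e]
      exacts [hx.2, by rw [mul_smul, hx.2, hx.1]]
    rw [inv_inv, mul_smul, mul_smul, inv_smul_eq_iff] at h1
    exact h1
  obtain ⟨g, h1, h2, h3⟩ := h.toN ha hb hab
  obtain ⟨g', h4, h5, h6⟩ := h.toN hc hd hcd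
  exact ⟨g' * g⁻¹, mul_mem h4 (inv_mem h1), by rw [mul_smul, ← h2, inv_smul_smul, h5],
    by rw [mul_smul, ← h3, inv_smul_smul, h6]⟩

/-- an element of `C(τ)` fixing two points of `Fix V` lies in `V` -/
theorem mem_V {g : G} (hg : g * τ = τ * g) {c d : Ω} (hc : c ∈ fixedBy Ω τ ∩ fixedBy Ω v)
    (hd : d ∈ fixedBy Ω τ ∩ fixedBy Ω v) (hcd : c ≠ d) (e1 : g • c = c) (e2 : g • d = d) :
    g = 1 ∨ g = τ ∨ g = v ∨ g = τ * v := by
  obtain ⟨n, hn, rfl, rfl⟩ := h.toN hc hd hcd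
  have h1 : n * τ * n⁻¹ = τ := mul_inv_eq_iff_eq_mul.2 hn.1
  have h2 : n * (τ * v) * n⁻¹ = τ * (n * v * n⁻¹) := by rw [← conj_mul, h1]
  rw [show g = n * (n⁻¹ * g * n) * n⁻¹ by group]
  rcases h.cent' hg hn.1 e1 e2 with e | e | e | e <;> rw [e]
  · simp
  · exact .inr (.inl h1)
  · exact .inr (.inr hn.2)
  · rcases hn.2 with e' | e' <;> rw [h2, e']
    · simp
    · rw [← mul_assoc, h.ττ]; simp

theorem lt_card : (fixedBy Ω τ).ncard < Nat.card Ω := by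
  have := h.faith
  obtain ⟨c, hc⟩ := exists_moved (Ω := Ω) h.τ1
  rw [← Set.ncard_univ]
  exact Set.ncard_lt_ncard ⟨Set.subset_univ _, fun e => hc (e trivial)⟩

theorem card_CK : Nat.card ↥(centralizer ({τ} : Set G) ⊓ stab2 G a b) = 4 := by
  obtain ⟨V, hV, e⟩ := D4.exists_V h.oτ h.ov h.ne h.comm
  rw [show centralizer ({τ} : Set G) ⊓ stab2 G a b = V from Subgroup.ext fun g => ⟨fun hg =>
    (e g).2 (h.cent g hg.2 (commC hg.1)), fun hg => ?_⟩, hV.card_four]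
  rcases (e g).1 hg with rfl | rfl | rfl | rfl
  exacts [one_mem _, ⟨memC rfl, h.τK⟩, ⟨memC h.comm.symm, h.vK⟩,
    mul_mem ⟨memC rfl, h.τK⟩ ⟨memC h.comm.symm, h.vK⟩]

theorem f2_card : (f2 (cl τ) a b).ncard = γ := by
  have h1 := relIndex_mul_card_inf (centralizer ({τ} : Set G)) (stab2 G a b)
  rw [h.card_CK, h.cardK, ← Fgs.ncard_conj_by_subgroup] at h1
  rw [show f2 (cl τ) a b = {y | ∃ k ∈ stab2 G a b, y = k * τ * k⁻¹} from Set.ext fun s => ⟨fun hs => ?_, ?_⟩]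
  · omega
  · obtain ⟨k, hk, e⟩ := h.conjK s hs.2 (mul_self_of_isConj h.ττ hs.1) (ne_one_of_isConj h.τ1 hs.1)
    exact ⟨k, hk, e.symm⟩
  · rintro ⟨k, hk, rfl⟩
    exact ⟨isConj_conj τ k, mul_mem (mul_mem hk h.τK) (inv_mem hk)⟩

theorem exists_I : ∃ I, IsConj τ I ∧ I • a = b ∧ I • b = a := by
  have := h.faith
  obtain ⟨c, hc⟩ := exists_moved (Ω := Ω) h.τ1
  obtain ⟨g, hg⟩ := exists_conj_sw h.two h.hab h.ττ hc
  exact ⟨_, isConj_conj τ g, hg⟩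

/-- type X: the involutions interchanging `a`, `b` -/
theorem sw_X {I : G} (hI : I * I = 1) (ha : I • a = b) (hb : I • b = a) (hc : ∀ k ∈ stab2 G a b, I * k = k * I)
    {s : G} (hs : s * s = 1) (h1 : s • a = b) (h2 : s • b = a) :
    s = I ∨ ∃ k ∈ stab2 G a b, s = I * (k * τ * k⁻¹) ∧ s = k * (I * τ) * k⁻¹ := by
  have h3 : I * s ∈ stab2 G a b := mul_mem_stab2_of_swap ha hb h1 h2
  have h4 : s = I * (I * s) := by rw [← mul_assoc, hI, one_mul]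
  by_cases e : I * s = 1
  · exact .inl (by rw [h4, e, mul_one])
  obtain ⟨k, hk, e'⟩ := h.conjK _ h3 (by rw [← mul_assoc, ← hc _ h3, ← h4, hs]) e
  exact .inr ⟨k, hk, by rw [e', ← h4], by rw [← mul_assoc, ← hc k hk, mul_assoc I, mul_assoc I, e', ← h4]⟩

theorem sw_X1 {I : G} (hI : I * I = 1) (ha : I • a = b) (hb : I • b = a) (hc : ∀ k ∈ stab2 G a b, I * k = k * I)
    (s : G) : s ∈ sw (cl τ) a b ↔ (s = I ∧ IsConj τ I) ∨ (s ∈ (I * ·) '' f2 (cl τ) a b ∧ IsConj τ (I * τ)) := by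
  refine ⟨fun hs => ?_, ?_⟩
  · rcases h.sw_X hI ha hb hc (mul_self_of_isConj h.ττ hs.1) hs.2.1 hs.2.2 with e | ⟨k, hk, e1, e2⟩
    · exact .inl ⟨e, e ▸ hs.1⟩
    · exact .inr ⟨⟨_, ⟨isConj_conj τ k, mul_mem (mul_mem hk h.τK) (inv_mem hk)⟩, e1.symm⟩,
        IsConj.trans hs.1 (e2 ▸ (isConj_conj _ k).symm)⟩
  · rintro (⟨rfl, e⟩ | ⟨⟨u, hu, rfl⟩, e⟩)
    · exact ⟨e, ha, hb⟩
    · obtain ⟨k, hk, rfl⟩ := h.conjK u hu.2 (mul_self_of_isConj h.ττ hu.1) (ne_one_of_isConj h.τ1 hu.1)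
      refine ⟨e.trans (isConj_iff.2 ⟨k, ?_⟩), by rw [mul_smul, hu.2.1, ha], by rw [mul_smul, hu.2.2, hb]⟩
      rw [← mul_assoc, ← hc k hk]; group

/-- `γ (n - i) = β i (i - 1)`, `|D| i (i - 1) = γ n (n - 1)`, `|D ∩ G_a| (i - 1) = γ (n - 1)` -/
theorem cnt : (γ : ℤ) * (Nat.card Ω - (fixedBy Ω τ).ncard) =
      (sw (cl τ) a b).ncard * ((fixedBy Ω τ).ncard * ((fixedBy Ω τ).ncard - 1)) ∧
    ((cl τ).ncard : ℤ) * ((fixedBy Ω τ).ncard * ((fixedBy Ω τ).ncard - 1)) =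
      γ * (Nat.card Ω * (Nat.card Ω - 1)) ∧
    ((f1 (cl τ) a).ncard : ℤ) * ((fixedBy Ω τ).ncard - 1) = γ * (Nat.card Ω - 1) := by
  have hf : ∀ s ∈ cl τ, (fixedBy Ω s ∩ Set.univ).ncard = (fixedBy Ω τ).ncard := fun s hs => by
    rw [Set.inter_univ, ncard_fixedBy_of_isConj hs]
  have h1 := (tt_top h.two).cnt_sw (cl_conj τ) (fun _ _ => trivial) (fun s hs x _ => by
    rw [← mul_smul, mul_self_of_isConj h.ττ hs, one_smul]) hf trivial trivial h.hab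
  have h2 := (tt_top h.two).cnt_two (cl_conj τ) hf trivial trivial h.hab
  have h3 := (tt_top h.two).cnt_one (cl_conj τ) hf (a := a) trivial
  rw [h.f2_card, Set.ncard_univ] at h2
  rw [Set.ncard_univ] at h1 h3
  have h4 := h.lt_card
  zify at h3
  refine ⟨mul_left_cancel₀ (show ((cl τ).ncard : ℤ) ≠ 0 from ?_) (by linear_combination γ * h1 -
    (sw (cl τ) a b).ncard * h2), by linear_combination h2, mul_left_cancel₀ (show (Nat.card Ω : ℤ) ≠ 0 by omega)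
      (by linear_combination h2 - ((fixedBy Ω τ).ncard - 1) * h3)⟩
  exact_mod_cast ((Set.ncard_pos (Set.toFinite _)).2 ⟨τ, IsConj.refl τ⟩).ne'

/-- the values of `β` -/
theorem beta : (TypX G a b ∧ ((sw (cl τ) a b).ncard = 1 ∨ (sw (cl τ) a b).ncard = γ ∨
      (sw (cl τ) a b).ncard = γ + 1)) ∨
    (TypY a b τ v γ ∧ (sw (cl τ) a b).ncard = (if γ = 3 then 6 else 10) ∧
      ∀ s : G, s * s = 1 → s ≠ 1 → IsConj τ s) := by
  obtain ⟨J, hJ⟩ := h.exists_I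
  rcases h.typ with hX | hY
  · refine .inl ⟨hX, ?_⟩
    obtain ⟨I, hI, ha, hb, hc⟩ := hX
    have h1 := h.sw_X1 hI ha hb hc
    have h2 : ((I * ·) '' f2 (cl τ) a b).ncard = γ := by
      rw [Set.ncard_image_of_injective _ (mul_right_injective I), h.f2_card]
    by_cases p1 : IsConj τ I <;> by_cases p2 : IsConj τ (I * τ) <;>
      simp only [p1, p2, and_true, and_false, or_false, false_or] at h1
    · rw [show sw (cl τ) a b = insert I _ from Set.ext h1, Set.ncard_insert_of_notMem, h2]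
      · simp
      · rintro ⟨u, hu, e⟩
        exact ne_one_of_isConj h.τ1 hu.1 (by simpa using e)
    · exact .inl (by rw [show sw (cl τ) a b = {I} from Set.ext h1, Set.ncard_singleton])
    · exact .inr (.inl (by rw [Set.ext h1, h2]))
    · exact ((h1 J).1 hJ).elim
  · have := h.faith
    have h1 : ∀ s : G, s * s = 1 → s ≠ 1 → IsConj τ s := fun s hs h1 => by
      obtain ⟨c, hc⟩ := exists_moved (Ω := Ω) h1
      obtain ⟨g, hg⟩ := exists_conj_sw h.two h.hab hs hc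
      obtain ⟨k, -, e⟩ := hY.conj J _ (mul_self_of_isConj h.ττ hJ.1) hJ.2.1 hJ.2.2 (conj_mul_self hs g) hg.1 hg.2
      exact (hJ.1.trans (isConj_iff.2 ⟨k, e⟩)).trans (isConj_conj s g).symm
    refine .inr ⟨hY, ?_, h1⟩
    rw [← hY.card]
    exact congrArg _ (Set.ext fun s => ⟨fun hs => ⟨mul_self_of_isConj h.ττ hs.1, hs.2⟩, fun hs =>
      ⟨h1 s hs.1 fun e => h.hab (by simpa [e] using hs.2.1), hs.2⟩⟩)

/-- `i = j`, `j²` or `j (2 j - 1)`; the last case is of type X -/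
theorem tri : (fixedBy Ω τ).ncard = (fixedBy Ω τ ∩ fixedBy Ω v).ncard ∨
    (fixedBy Ω τ).ncard = (fixedBy Ω τ ∩ fixedBy Ω v).ncard ^ 2 ∨
    ((fixedBy Ω τ).ncard + (fixedBy Ω τ ∩ fixedBy Ω v).ncard =
      2 * (fixedBy Ω τ ∩ fixedBy Ω v).ncard ^ 2 ∧ ¬ TypY a b τ v γ) := by
  let D : Set G := {s | ∃ c ∈ centralizer ({τ} : Set G), s = c * v * c⁻¹ ∨ s = c * (τ * v) * c⁻¹}
  have hD : ∀ g ∈ centralizer ({τ} : Set G), ∀ s ∈ D, g * s * g⁻¹ ∈ D := by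
    rintro g hg s ⟨c, hc, e⟩
    exact ⟨g * c, mul_mem hg hc, e.imp (fun e => by rw [e]; group) fun e => by rw [e]; group⟩
  have hv : v ∈ centralizer ({τ} : Set G) := memC h.comm.symm
  have hDC : D ⊆ centralizer ({τ} : Set G) := by
    rintro _ ⟨c, hc, rfl | rfl⟩
    exacts [mul_mem (mul_mem hc hv) (inv_mem hc), mul_mem (mul_mem hc (mul_mem (memC rfl) hv)) (inv_mem hc)]
  have h2 : ∀ s ∈ D, s * s = 1 := by
    rintro _ ⟨c, hc, rfl | rfl⟩
    exacts [conj_mul_self h.vv c, conj_mul_self h.τv_sq c]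
  have hτ : ∀ c ∈ centralizer ({τ} : Set G), c * (τ * v) * c⁻¹ = τ * (c * v * c⁻¹) := fun c hc => by
    rw [← conj_mul, mul_inv_eq_iff_eq_mul.2 (commC hc)]
  have hf : ∀ s ∈ D, (fixedBy Ω s ∩ fixedBy Ω τ).ncard = (fixedBy Ω τ ∩ fixedBy Ω v).ncard := by
    rintro s ⟨c, hc, e⟩
    rw [← Set.ncard_image_of_injective (fixedBy Ω τ ∩ fixedBy Ω v) (MulAction.injective c)]
    refine congrArg _ (Set.ext fun x => ?_)
    obtain ⟨x, rfl⟩ := MulAction.surjective c x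
    rw [(MulAction.injective c).mem_set_image, Set.mem_inter_iff, Set.mem_inter_iff, h.tC.inv_iff hc, and_comm]
    refine and_congr_right fun hx => ?_
    rcases e with rfl | rfl <;> rw [mem_fixedBy, conj_smul_iff]
    · rfl
    · rw [h.comm, mul_smul, hx, mem_fixedBy]
  have h3 := h.tC.cnt_sw hD hDC (fun s hs x _ => by rw [← mul_smul, h2 s hs, one_smul]) hf h.aF.1 h.bF.1 h.hab
  have h4 := h.tC.cnt_two hD hf h.aF.1 h.bF.1 h.hab
  have h5 : f2 D a b = {v, τ * v} := Set.ext fun s => ⟨fun hs => ?_, ?_⟩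
  rotate_left
  · rcases h.cent s hs.2 (commC (hDC hs.1)) with e | e | e
    · obtain ⟨c, -, e' | e'⟩ := hs.1
      exacts [absurd (by simpa [e] using e'.symm) h.v1, absurd (by simpa [e] using e'.symm) h.τv1]
    · obtain ⟨c, hc, e' | e'⟩ := hs.1
      · rw [e, ← mul_inv_eq_iff_eq_mul.2 (commC hc)] at e'
        exact absurd (by simpa using e') h.ne
      · rw [e, hτ c hc] at e'
        exact absurd (by simpa using e') h.v1
    · exact e
  · rintro (rfl | rfl)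
    exacts [⟨⟨1, one_mem _, .inl (by simp)⟩, h.vK⟩, ⟨⟨1, one_mem _, .inr (by simp)⟩, mul_mem h.τK h.vK⟩]
  rw [h5, Set.ncard_pair (by simpa using h.τ1)] at h4
  have h6 : sw D a b ⊆ sw (centralizer ({τ} : Set G) : Set G) a b := fun s hs => ⟨hDC hs.1, hs.2⟩
  have h7 := h.tC.ncard_sw h.aF.1 h.bF.1 h.hab
  rw [h.card_CK] at h7
  have h8 := Set.ncard_le_ncard h6
  have h9 := ncard_mod_two (F := sw D a b) (g := τ) (by
    rintro s ⟨⟨c, hc, e⟩, h8, h9⟩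
    refine ⟨⟨c, hc, e.symm.imp (fun e => ?_) fun e => by rw [hτ c hc, e, smul_eq_mul]⟩,
      by rw [smul_eq_mul, mul_smul, h8, h.τK.2], by rw [smul_eq_mul, mul_smul, h9, h.τK.1]⟩
    rw [e, hτ c hc, smul_eq_mul, ← mul_assoc, h.ττ, one_mul])
    fun x _ => by rw [← mul_smul, h.ττ, one_smul]
  rw [show fixedBy G τ ∩ sw D a b = ∅ from Set.eq_empty_of_forall_notMem fun s hs =>
    h.τ1 (by simpa using hs.1), Set.ncard_empty] at h9
  have h10 : (D.ncard : ℤ) ≠ 0 := by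
    exact_mod_cast ((Set.ncard_pos (Set.toFinite D)).2 ⟨v, 1, one_mem _, .inl (by simp)⟩).ne'
  have h11 : (2 : ℤ) * ((fixedBy Ω τ).ncard - (fixedBy Ω τ ∩ fixedBy Ω v).ncard) = (sw D a b).ncard *
      ((fixedBy Ω τ ∩ fixedBy Ω v).ncard * ((fixedBy Ω τ ∩ fixedBy Ω v).ncard - 1)) :=
    mul_left_cancel₀ h10 (by push_cast at h4; linear_combination 2 * h3 - (sw D a b).ncard * h4)
  have h12 : (sw D a b).ncard = 0 ∨ (sw D a b).ncard = 2 ∨ (sw D a b).ncard = 4 := by omega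
  rcases h12 with e | e | e <;> rw [e] at h11
  · exact .inl (by omega)
  · exact .inr (.inl (by zify; push_cast at h11; linarith))
  refine .inr (.inr ⟨by zify; push_cast at h11; linarith, fun hY => ?_⟩)
  obtain ⟨I, hI, ha, hb, h12, h13⟩ := hY.ex
  have h14 := h2 _ ((Set.eq_of_subset_of_ncard_le h6 (by omega)).ge (show I * v ∈ _ from ⟨mul_mem (memC h12) hv,
    by rw [mul_smul, h.vK.1, ha], by rw [mul_smul, h.vK.2, hb]⟩)).1
  rw [inv_eq_of_mul_eq_one_right hI] at h13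
  rw [← mul_assoc, h13, mul_assoc, h.vv, mul_one] at h14
  exact h.τ1 h14

end CfsgLib.Kim.AH
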