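import Mathlib

/-! PERM3 / AGL: recognition of `AGL(2,4)`. -/

set_option autoImplicit false

namespace CfsgLib.Kim

open Subgroup MulAction

/-- The field with four elements. -/
abbrev AglF4 : Type := QuadraticAlgebra (ZMod 2) 1 1

instance aglF4_fact : Fact (∀ r : ZMod 2, r ^ 2 ≠ 1 + 1 * r) := ⟨by decide⟩

noncomputable instance aglF4_fintype : Fintype AglF4 :=
  Fintype.ofEquiv _ (QuadraticAlgebra.equivProd (1 : ZMod 2) 1).symm

theorem aglF4_card : Fintype.card AglF4 = 4 := by
  rw [Fintype.card_congr (QuadraticAlgebra.equivProd (1 : ZMod 2) 1)]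
  simp

theorem agl_card_le {F : Type} [Field F] [Fintype F] (hF : Fintype.card F = 4) :
    Finite ((Fin 2 → F) ≃ᵃ[F] (Fin 2 → F)) ∧
      Nat.card ((Fin 2 → F) ≃ᵃ[F] (Fin 2 → F)) ≤ 2880 := by
  classical
  let ι : ((Fin 2 → F) ≃ᵃ[F] (Fin 2 → F)) → (Fin 2 → F) × GL (Fin 2) F := fun A =>
    (A 0, Matrix.GeneralLinearGroup.toLin.symm
      ((LinearMap.GeneralLinearGroup.generalLinearEquiv F (Fin 2 → F)).symm A.linear))
  have hι : Function.Injective ι := by
    intro A B hAB
    have h1 : A 0 = B 0 := congrArg Prod.fst hAB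
    have h2 : A.linear = B.linear := by
      have := congrArg Prod.snd hAB
      exact (LinearMap.GeneralLinearGroup.generalLinearEquiv F (Fin 2 → F)).symm.injective
        (Matrix.GeneralLinearGroup.toLin.symm.injective this)
    ext1 v
    have hA := A.map_vadd 0 v
    have hB := B.map_vadd 0 v
    simp only [vadd_eq_add, add_zero] at hA hB
    rw [hA, hB, h1, h2]
  refine ⟨Finite.of_injective ι hι, ?_⟩
  have := Nat.card_le_card_of_injective ι hι
  rw [Nat.card_prod, Matrix.card_GL_field, Nat.card_eq_fintype_card (α := Fin 2 → F),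
    Fintype.card_fun, hF] at this
  simpa [Fin.prod_univ_two] using this

theorem agl_of_lin {F : Type} [Field F] [Fintype F] (hF : Fintype.card F = 4)
    {G Ω V : Type*} [Group G] [Finite G] [MulAction G Ω] [FaithfulSMul G Ω]
    [AddCommGroup V] [Module F V] (hV : Nat.card V = 16) (hG : Nat.card G = 2880)
    (β : V ≃ Ω) (L : G → V →ₗ[F] V)
    (hL : ∀ g v w, g • β (v + w) = β (L g v + β.symm (g • β w))) :
    Nonempty (G ≃* ((Fin 2 → F) ≃ᵃ[F] (Fin 2 → F))) := by
  classical
  haveI : Finite V := Nat.finite_of_card_ne_zero (by omega)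
  haveI : Module.Finite F V := Module.Finite.of_finite
  have hr : Module.finrank F V = 2 := by
    have h := Module.natCard_eq_pow_finrank (K := F) (V := V)
    rw [hV, Nat.card_eq_fintype_card, hF] at h
    exact (Nat.pow_right_injective (by norm_num : 2 ≤ 4) (show 4 ^ 2 = 4 ^ _ from h)).symm
  let e : (Fin 2 → F) ≃ₗ[F] V := (LinearEquiv.ofFinrankEq _ _ (by simp [hr]))
  let γ : (Fin 2 → F) ≃ Ω := e.toEquiv.trans β
  let φ : G → ((Fin 2 → F) →ᵃ[F] (Fin 2 → F)) := fun g =>
    { toFun := fun v => γ.symm (g • γ v)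
      linear := e.symm.toLinearMap ∘ₗ L g ∘ₗ e.toLinearMap
      map_vadd' := by
        intro p v
        simp only [vadd_eq_add, γ, Equiv.trans_apply, Equiv.symm_trans_apply,
          LinearEquiv.coe_toEquiv, map_add, hL, Equiv.symm_apply_apply,
          LinearEquiv.coe_symm_toEquiv, LinearMap.comp_apply, LinearEquiv.coe_coe] }
  have hφ : ∀ g v, φ g v = γ.symm (g • γ v) := fun g v => rfl
  have hb : ∀ g, Function.Bijective (φ g) := fun g =>
    γ.symm.bijective.comp ((MulAction.toPerm g).bijective.comp γ.bijective)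
  let Φ : G →* ((Fin 2 → F) ≃ᵃ[F] (Fin 2 → F)) :=
    MonoidHom.mk' (fun g => AffineEquiv.ofBijective (hb g)) (by
      intro g k
      ext1 v
      change φ (g * k) v = φ g (φ k v)
      simp only [hφ, Equiv.apply_symm_apply, mul_smul])
  have hΦ : Function.Injective Φ := by
    rw [injective_iff_map_eq_one]
    intro g hg
    apply eq_of_smul_eq_smul (α := Ω)
    intro x
    have : φ g (γ.symm x) = γ.symm x := by
      change Φ g (γ.symm x) = _
      rw [hg]; rfl
    rw [hφ, Equiv.apply_symm_apply] at this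
    rw [one_smul]
    exact γ.symm.injective this
  obtain ⟨hfin, hle⟩ := agl_card_le hF
  have hbij : Function.Bijective Φ :=
    hΦ.bijective_of_nat_card_le (by rw [hG]; exact hle)
  exact ⟨MulEquiv.ofBijective Φ hbij⟩

theorem agl24 {G Ω : Type*} [Group G] [Finite G] [MulAction G Ω] [Finite Ω] [FaithfulSMul G Ω]
    (h2 : IsMultiplyPretransitive G Ω 2) (hΩ : Nat.card Ω = 16) (hG : Nat.card G = 2880)
    {N : Subgroup G} (hN : N.Normal) (hNt : ∀ x y : Ω, ∃ n ∈ N, n • x = y)
    (hNr : ∀ x : Ω, ∀ n ∈ N, n • x = x → n = 1) {a : Ω} {h : G} (ha : h • a = a)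
    (h3 : orderOf h = 3) (hc : ∀ g : G, g • a = a → g * h = h * g) :
    ∃ (F : Type) (_ : Field F) (_ : Fintype F), Fintype.card F = 4 ∧
      Nonempty (G ≃* ((Fin 2 → F) ≃ᵃ[F] (Fin 2 → F))) := by
  classical
  have hinj : ∀ m ∈ N, ∀ n ∈ N, m • a = n • a → m = n := by
    intro m hm n hn hmn
    have : n⁻¹ * m = 1 := hNr a _ (N.mul_mem (N.inv_mem hn) hm) (by
      rw [mul_smul, hmn, inv_smul_smul])
    rw [inv_mul_eq_one] at this
    exact this.symm
  let β0 : N ≃ Ω := Equiv.ofBijective (fun n => (n : G) • a) ⟨fun m n hmn =>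
    Subtype.ext (hinj _ m.2 _ n.2 hmn), fun y => by
      obtain ⟨n, hn, hy⟩ := hNt a y
      exact ⟨⟨n, hn⟩, hy⟩⟩
  have hcN : Nat.card N = 16 := by rw [Nat.card_congr β0, hΩ]
  -- the stabiliser of `a` is transitive on the nontrivial elements of `N`
  have htr : ∀ m ∈ N, ∀ n ∈ N, m ≠ 1 → n ≠ 1 → ∃ g : G, g • a = a ∧ g * m * g⁻¹ = n := by
    intro m hm n hn hm1 hn1
    have h1 : a ≠ m • a := fun hh => hm1 (hNr a m hm hh.symm)
    have h1' : a ≠ n • a := fun hh => hn1 (hNr a n hn hh.symm)
    obtain ⟨g, hg1, hg2⟩ := (is_two_pretransitive_iff.mp h2) h1 h1'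
    refine ⟨g, hg1, hinj _ (hN.conj_mem m hm g) _ hn ?_⟩
    have : g⁻¹ • a = a := by rw [inv_smul_eq_iff, hg1]
    rw [mul_smul, mul_smul, this, hg2]
  have hsq : ∀ n ∈ N, n * n = 1 := by
    haveI : Fact (Nat.Prime 2) := Nat.fact_prime_two
    obtain ⟨m, hm⟩ := exists_prime_orderOf_dvd_card' (G := N) 2 (by rw [hcN]; norm_num)
    have hm1 : (m : G) ≠ 1 := by
      intro hh
      have : m = 1 := Subtype.ext hh
      rw [this, orderOf_one] at hm
      omega
    have hm2 : (m : G) * m = 1 := by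
      have := pow_orderOf_eq_one m
      rw [hm, pow_two] at this
      exact congrArg Subtype.val this
    intro n hn
    by_cases hn1 : n = 1
    · rw [hn1, one_mul]
    obtain ⟨g, -, hg⟩ := htr m m.2 n hn hm1 hn1
    rw [← hg]
    calc g * m * g⁻¹ * (g * m * g⁻¹) = g * ((m : G) * m) * g⁻¹ := by group
      _ = 1 := by rw [hm2]; group
  have hcomm : ∀ m ∈ N, ∀ n ∈ N, m * n = n * m := by
    intro m hm n hn
    have h1 := hsq _ (N.mul_mem hm hn)
    have hm' : m⁻¹ = m := inv_eq_of_mul_eq_one_right (hsq m hm)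
    have hn' : n⁻¹ = n := inv_eq_of_mul_eq_one_right (hsq n hn)
    have h1' : (m * n)⁻¹ = m * n := inv_eq_of_mul_eq_one_right h1
    rw [← h1', mul_inv_rev, hm', hn']
  have hh1 : h ≠ 1 := by
    intro hh
    rw [hh, orderOf_one] at h3
    omega
  have hh3 : h * h * h = 1 := by
    have := pow_orderOf_eq_one h
    rw [h3] at this
    rw [← this, pow_succ, pow_two]
  have hfree : ∀ n ∈ N, h * n * h⁻¹ = n → n = 1 := by
    intro n hn hhn
    by_contra hn1
    apply hh1
    apply eq_of_smul_eq_smul (α := Ω)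
    intro x
    obtain ⟨m, hm, rfl⟩ := hNt a x
    rw [one_smul]
    by_cases hm1 : m = 1
    · rw [hm1, one_smul, ha]
    obtain ⟨g, hga, hg⟩ := htr n hn m hm hn1 hm1
    have e1 : h * n = n * h := by rw [← hhn]; nth_rewrite 1 [hhn]; rw [mul_assoc (h * n), inv_mul_cancel, mul_one]
    have e2 : g * h = h * g := hc g hga
    have e3 : h * g⁻¹ = g⁻¹ * h := by
      calc h * g⁻¹ = g⁻¹ * (g * h) * g⁻¹ := by group
        _ = g⁻¹ * h := by rw [e2]; group
    have : h * m = m * h := by
      rw [← hg]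
      calc h * (g * n * g⁻¹) = (h * g) * n * g⁻¹ := by group
        _ = g * (h * n) * g⁻¹ := by rw [← e2]; group
        _ = g * n * (h * g⁻¹) := by rw [e1]; group
        _ = g * n * g⁻¹ * h := by rw [e3]; group
    rw [← mul_smul, this, mul_smul, ha]
  letI : CommGroup N := { (inferInstance : Group N) with
    mul_comm := fun m n => Subtype.ext (hcomm _ m.2 _ n.2) }
  letI : Module (ZMod 2) (Additive N) := AddCommGroup.zmodModule (by
    intro x
    rw [two_nsmul]
    exact Subtype.ext (hsq _ (x.toMul).2))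
  let c : G → (Additive N →ₗ[ZMod 2] Additive N) := fun g =>
    (MonoidHom.toAdditive (MulAut.conjNormal g : MulAut N).toMonoidHom).toZModLinearMap 2
  have hcv : ∀ g (v : Additive N), ((c g v).toMul : G) = g * (v.toMul : G) * g⁻¹ := fun g v => rfl
  have hext : ∀ v w : Additive N, (v.toMul : G) = (w.toMul : G) → v = w := fun v w hvw =>
    Additive.toMul.injective (Subtype.ext hvw)
  have hT : c h * c h = (1 : ZMod 2) • (1 : Module.End (ZMod 2) (Additive N)) + (1 : ZMod 2) • c h := by
    ext1 v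
    simp only [one_smul, Module.End.mul_apply, LinearMap.add_apply, Module.End.one_apply]
    have hz : v + c h v + c h (c h v) = 0 := by
      have h33 : c h (c h (c h v)) = v := by
        apply hext
        rw [hcv, hcv, hcv]
        calc h * (h * (h * (v.toMul : G) * h⁻¹) * h⁻¹) * h⁻¹
            = (h * h * h) * (v.toMul : G) * (h * h * h)⁻¹ := by group
          _ = _ := by rw [hh3]; group
      have hfix : c h (v + c h v + c h (c h v)) = v + c h v + c h (c h v) := by
        rw [map_add, map_add, h33]; abel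
      apply hext
      apply hfree _ ((v + c h v + c h (c h v)).toMul).2
      rw [← hcv, hfix]
    have h2v : ∀ w : Additive N, w + w = 0 := fun w => hext _ _ (hsq _ (w.toMul).2)
    calc c h (c h v) = (v + c h v + c h (c h v)) + (v + c h v) - ((v + c h v) + (v + c h v)) := by
          abel
      _ = v + c h v := by rw [hz, h2v]; abel
  let ψ : AglF4 →ₐ[ZMod 2] Module.End (ZMod 2) (Additive N) := QuadraticAlgebra.lift ⟨c h, hT⟩
  letI : Module AglF4 (Additive N) := Module.compHom (Additive N) ψ.toRingHom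
  have hsm : ∀ (z : AglF4) (v : Additive N), z • v = z.re • v + z.im • c h v := by
    intro z v
    change ψ z v = _
    simp [ψ, QuadraticAlgebra.lift]
  have hch : ∀ g v, c g (c h v) = c h (c g v) := by
    intro g v
    apply hext
    rw [hcv, hcv, hcv, hcv]
    obtain ⟨n, hn, hna⟩ := hNt a (g • a)
    have hg0 : (n⁻¹ * g) • a = a := by rw [mul_smul, ← hna, inv_smul_smul]
    have e2 := hc _ hg0
    set g0 := n⁻¹ * g with hg0d
    have hg : g = n * g0 := by rw [hg0d]; group
    have hcj : ∀ m ∈ N, g * m * g⁻¹ = g0 * m * g0⁻¹ := by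
      intro m hm
      have := hcomm n hn _ (hN.conj_mem m hm g0)
      calc g * m * g⁻¹ = n * (g0 * m * g0⁻¹) * n⁻¹ := by rw [hg]; group
        _ = _ := by rw [this]; group
    rw [hcj _ (hN.conj_mem _ (v.toMul).2 h), hcj _ (v.toMul).2]
    calc g0 * (h * (v.toMul : G) * h⁻¹) * g0⁻¹ = (g0 * h) * (v.toMul : G) * (g0 * h)⁻¹ := by group
      _ = _ := by rw [e2]; group
  let L : G → Additive N →ₗ[AglF4] Additive N := fun g =>
    { toFun := c g
      map_add' := map_add _
      map_smul' := by
        intro z v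
        rw [RingHom.id_apply, hsm, hsm, map_add, map_smul, map_smul, hch] }
  let β : Additive N ≃ Ω := Additive.toMul.trans β0
  have hβ : ∀ v : Additive N, β v = (v.toMul : G) • a := fun v => rfl
  refine ⟨AglF4, inferInstance, inferInstance, aglF4_card,
    agl_of_lin aglF4_card (V := Additive N) hcN hG β L ?_⟩
  intro g v w
  have hs := β.apply_symm_apply (g • β w)
  rw [hβ] at hs
  rw [hβ, hβ (L g v + _), toMul_add, toMul_add, Subgroup.coe_mul, Subgroup.coe_mul, mul_smul,
    mul_smul, hs, hβ]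
  change _ = ((c g v).toMul : G) • _
  rw [hcv, mul_smul, mul_smul, inv_smul_smul]

end CfsgLib.Kim
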