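import Mathlib
import Cfsg.Agent.Lib.Kim.AH1
import Cfsg.Agent.Lib.Kim.Agl
import Cfsg.Agent.Lib.Perm.Sharp2
import Cfsg.Agent.Lib.Tech.SylowIn

/-! PERM3 / S3219, S3262: even degree. -/

set_option autoImplicit false

namespace CfsgLib.Kim.AH

open Subgroup MulAction CfsgLib.Perm CfsgLib.Tech

theorem ev_fin : ∀ k ∈ List.range 9, ∀ y ∈ List.range 32, ∀ ε ∈ [(1 : ℤ), -1],
    ∀ p ∈ [(3, 1), (3, 3), (3, 4), (3, 6), (15, 1), (15, 15), (15, 16), ((15 : ℤ), (10 : ℤ))],
    ∀ q ∈ [(2 ^ k, 1), ((2 ^ k) ^ 2, 2 ^ k + 1), ((2 * (2 ^ k) ^ 2 - 2 ^ k : ℤ), (2 * 2 ^ k + 1 : ℤ))],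
    1 ≤ k → (y : ℤ) ∣ q.2 → p.2 * q.1 + p.1 = (4 * q.2 + ε * y) * (2 * q.2 + ε * y) →
    (p, q.1, k) ∈ [((3, 3), 4, 2), ((3, 6), 2, 1), ((3, 6), 4, 1), ((15, 10), 4, 1), ((15, 10), 6, 1)] := by
  decide +kernel

theorem ev_arith {γ β i x ε : ℤ} {y k : ℕ} (hk : 1 ≤ k) (hε : ε = 1 ∨ ε = -1)
    (hp : (γ, β) ∈ [(3, 1), (3, 3), (3, 4), (3, 6), (15, 1), (15, 15), (15, 16), ((15 : ℤ), (10 : ℤ))])
    (hi : i = 2 ^ k ∨ i = (2 ^ k) ^ 2 ∨ i = 2 * (2 ^ k) ^ 2 - 2 ^ k) (hx : x * (2 ^ k - 1) = i - 1)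
    (hy : (y : ℤ) ∣ x) (e : β * i + γ = (4 * x + ε * y) * (2 * x + ε * y)) :
    ((γ, β), i, k) ∈ [((3, 3), 4, 2), ((3, 6), 2, 1), ((3, 6), 4, 1), ((15, 10), 4, 1), ((15, 10), 6, 1)] := by
  have h2 : (2 : ℤ) ≤ 2 ^ k := le_self_pow₀ one_le_two (by omega)
  have hq : (i, x) ∈ [(2 ^ k, 1), ((2 ^ k) ^ 2, 2 ^ k + 1), ((2 * (2 ^ k) ^ 2 - 2 ^ k : ℤ), (2 * 2 ^ k + 1 : ℤ))] := by
    have h0 : (2 : ℤ) ^ k - 1 ≠ 0 := by omega
    rcases hi with rfl | rfl | rfl
    · simp [show x = 1 from mul_right_cancel₀ h0 (by linear_combination hx)]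
    · simp [show x = 2 ^ k + 1 from mul_right_cancel₀ h0 (by linear_combination hx)]
    · simp [show x = 2 * 2 ^ k + 1 from mul_right_cancel₀ h0 (by linear_combination hx)]
  have h3 : (y : ℤ) ∣ β + γ := by
    obtain ⟨w, rfl⟩ := hy
    exact ⟨(4 * w + ε) * (2 * w + ε) * y - β * w * (2 ^ k - 1), by linear_combination e + β * hx⟩
  have h4 : (y : ℤ) ≤ β + γ := Int.le_of_dvd (by simp at hp; omega) h3
  have h5 : (y : ℤ) ≤ 31 := by simp at hp; omega
  refine ev_fin k (List.mem_range.2 ?_) y (List.mem_range.2 (by omega)) ε (by simpa using hε) _ hp _ hq hk hy e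
  by_contra h6
  have h7 : (512 : ℤ) ≤ 2 ^ k := (by norm_num : (512 : ℤ) = 2 ^ 9) ▸ pow_le_pow_right₀ one_le_two (by omega)
  generalize (2 : ℤ) ^ k = j at hq h7
  have h8 : (0 : ℤ) ≤ y := by omega
  simp only [List.mem_cons, Prod.mk.injEq, List.not_mem_nil, or_false] at hp hq
  have h9 : β ≤ 6 ∨ 10 ≤ β := by omega
  have h10 : 1 ≤ β ∧ 3 ≤ γ ∧ γ ≤ 15 := by omega
  rcases hq with ⟨rfl, rfl⟩ | ⟨rfl, rfl⟩ | ⟨rfl, rfl⟩
  · rcases hε with rfl | rfl <;> nlinarith
  · rcases hε with rfl | rfl <;> rcases h9 with h9 | h9 <;> nlinarith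
  · by_cases h11 : β ≤ 15
    · rcases hε with rfl | rfl <;> nlinarith
    obtain ⟨rfl, rfl⟩ : γ = 15 ∧ β = 16 := by omega
    have h12 : y ∣ 31 := by exact_mod_cast h3
    rcases (Nat.dvd_prime (by norm_num)).1 h12 with rfl | rfl <;> rcases hε with rfl | rfl <;> push_cast at e <;>
      nlinarith

theorem cent3 {H : Type*} [Group H] [Finite H] (hH : Nat.card H = 180) {u v ρ : H} (hu : orderOf u = 2)
    (hv : orderOf v = 2) (hne : u ≠ v) (hc : u * v = v * u)
    (hone : ∀ s t : H, orderOf s = 2 → orderOf t = 2 → IsConj s t) (hC : ∀ g, g * u = u * g → g * v = v * g)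
    (h12 : Nat.card (centralizer ({u} : Set H)) = 12) (h1 : ρ * u * ρ⁻¹ = v) (h2 : ρ * v * ρ⁻¹ = u * v) :
    ∃ h : H, orderOf h = 3 ∧ ∀ g, g * h = h * g := by
  obtain ⟨P, hP, e⟩ := D4.sylow_four hu hv hne hc (by rw [hH]; norm_num)
  have huv := D4.ord_mul hu hv hne hc
  have h3 : ρ * (u * v) * ρ⁻¹ = u := by
    rw [← conj_mul, h1, h2, hc, ← mul_assoc, (orderOf_eq_two_iff'.1 hv).1, one_mul]
  have hρ : ρ ∈ normalizer ((P : Subgroup H) : Set H) := mem_normalizer_of_forall fun x hx => (e _).2 (by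
    rcases (e x).1 hx with rfl | rfl | rfl | rfl <;> simp [h1, h2, h3])
  have hCL : centralizer {u} ≤ normalizer ((P : Subgroup H) : Set H) := fun g hg =>
    mem_normalizer_of_forall fun x hx => by
      have : g * x = x * g := by
        rcases (e x).1 hx with rfl | rfl | rfl | rfl
        exacts [by simp, commC hg, hC g (commC hg), Commute.mul_right (commC hg) (hC g (commC hg))]
      rwa [this, mul_inv_cancel_right]
  set L := normalizer ((P : Subgroup H) : Set H)
  have h4 : 3 ≤ (centralizer {u}).relIndex L := by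
    rw [← Fgs.ncard_conj_by_subgroup, ← Set.ncard_eq_three.2 ⟨u, v, u * v, hne,
      by simpa using (orderOf_eq_two_iff'.1 hv).2, by simpa using (orderOf_eq_two_iff'.1 hu).2, rfl⟩]
    refine Set.ncard_le_ncard ?_
    rintro _ (rfl | rfl | rfl)
    exacts [⟨1, one_mem _, by simp⟩, ⟨ρ, hρ, h1.symm⟩, ⟨ρ * ρ, mul_mem hρ hρ, by rw [← h2, ← h1]; group⟩]
  have h5 : L.index ≤ 5 := by
    have h5 := card_mul_relIndex' hCL
    have h6 := L.card_mul_index
    rw [hH, ← h5, h12] at h6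
    nlinarith
  have h6 : L.normalCore.index ∣ 120 := by
    rw [normalCore_eq_ker, index_ker]
    refine (card_subgroup_dvd_card _).trans ?_
    rw [Nat.card_perm]
    exact Nat.factorial_dvd_factorial (m := L.index) (n := 5) h5
  have h7 : ∀ s ∈ L, orderOf s = 2 → s ∈ (P : Subgroup H) := fun s hs h7 =>
    (IsSylowIn.of_sylow_top P).le_of_normalizes (isPGroup_zpowers_iff.2 ⟨1, h7⟩) le_top (zpowers_le.2 hs)
      (mem_zpowers s)
  have h8 : ∀ s ∈ L.normalCore, orderOf s ≠ 2 := fun s hs h8 => by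
    have h9 := Set.ncard_le_ncard (show cl u ⊆ (P : Subgroup H) from fun t ht => by
      have h9 : orderOf t = 2 := by obtain ⟨g, rfl⟩ := isConj_iff.1 ht; rwa [← MulAut.conj_apply, MulEquiv.orderOf_eq]
      obtain ⟨g, rfl⟩ := isConj_iff.1 (hone s t h8 h9)
      exact h7 _ (hs g) h9)
    have h10 := ncard_cl u
    rw [ncard_coe, hP.card_four] at h9
    rw [h12, hH] at h10
    omega
  have h9 : L.normalCore ≤ centralizer (P : Subgroup H) := Core.le_centralizer_of_le_normalizer_of_disjoint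
    (normalCore_le _) le_normalizer_of_normal (eq_bot_iff.2 fun s hs => by
      rcases (e s).1 hs.2 with rfl | rfl | rfl | rfl
      exacts [one_mem _, (h8 _ hs.1 hu).elim, (h8 _ hs.1 hv).elim, (h8 _ hs.1 huv).elim])
  have h10 : Nat.card L.normalCore = 3 := by
    have h10 := card_dvd_of_le (show L.normalCore ≤ centralizer {u} from fun g hg =>
      memC (h9 hg u ((e u).2 (by simp))).symm)
    have h11 := L.normalCore.card_mul_index
    have h13 : ¬ 2 ∣ Nat.card L.normalCore := fun e => by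
      obtain ⟨s, hs⟩ := exists_prime_orderOf_dvd_card' 2 e
      exact h8 s s.2 (by rwa [Subgroup.orderOf_coe])
    rw [h12] at h10
    have := Nat.le_of_dvd (by norm_num) h10
    rw [hH] at h11
    generalize Nat.card L.normalCore = m at *
    obtain rfl | rfl : m = 1 ∨ m = 3 := by interval_cases m <;> omega
    · rw [show L.normalCore.index = 180 by omega] at h6
      omega
    · rfl
  have := Fact.mk Nat.prime_three
  obtain ⟨⟨h, hM⟩, hh⟩ := exists_prime_orderOf_dvd_card' 3 h10.symm.dvd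
  rw [Subgroup.orderOf_mk] at hh
  refine ⟨h, hh, fun g => commC ((index_eq_one.1 ?_).ge (mem_top g))⟩
  have h11 : (centralizer {h}).index ≤ 2 := by
    rw [index_cent]
    refine (Set.ncard_le_ncard (t := (L.normalCore : Set H) \ {1}) fun t ht => ⟨?_, ne_one_of_isConj
      (fun e => by simp [e] at hh) ht⟩).trans (by rw [Set.ncard_sdiff_singleton_of_mem (one_mem _), ncard_coe, h10])
    obtain ⟨g, rfl⟩ := isConj_iff.1 ht
    exact (normalCore_normal L).conj_mem h hM g
  have h13 : ¬ 2 ∣ (centralizer {h}).index := fun e => P.not_dvd_index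
    (e.trans (index_dvd_of_le fun x hx => memC (h9 hM x hx)))
  have := (centralizer {h}).index_ne_zero_of_finite
  omega

variable {G : Type*} {Ω : Type*} [Group G] [MulAction G Ω] [Finite G] [Finite Ω]
  {a b : Ω} {τ v : G} {γ : ℕ}

theorem not28 [FaithfulSMul G Ω] (h2 : IsMultiplyPretransitive G Ω 2) (hab : a ≠ b) (hΩ : Nat.card Ω = 28)
    (hK : Nat.card (stab2 G a b) = 12) (hC : ∀ s : G, orderOf s = 2 → ¬ 7 ∣ Nat.card (centralizer ({s} : Set G))) :
    False := by
  have hG : Nat.card G = 9072 := by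
    have := (tt_top h2).card_grp trivial trivial hab
    rw [top_inf_eq, card_top, Set.ncard_univ, hΩ, hK] at this
    omega
  have := Fact.mk (show Nat.Prime 7 by norm_num)
  have := Fact.mk Nat.prime_three
  obtain ⟨g, hg⟩ := exists_prime_orderOf_dvd_card' (G := G) 7 (by rw [hG]; norm_num)
  have hz : Nat.card (zpowers g) = 7 := by rw [Nat.card_zpowers, hg]
  let P : Sylow 7 G := Sylow.ofCard (zpowers g) (by
    rw [hz, hG, show 9072 = 7 * 1296 from rfl, Nat.factorization_mul (by norm_num) (by norm_num),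
      Finsupp.add_apply, Nat.Prime.factorization_self Fact.out, Nat.factorization_eq_zero_of_not_dvd (by norm_num)]
    rfl)
  have hK' : ∀ c d : Ω, c ≠ d → Nat.card (stab2 G c d) = 12 := fun c d hcd => by
    obtain ⟨x, rfl, rfl⟩ := exists_smul_pair h2 hab hcd
    rw [card_stab2_smul, hK]
  have h1 : ¬ 2 ∣ Nat.card (centralizer ({g} : Set G)) := fun e => by
    obtain ⟨s, hs⟩ := exists_prime_orderOf_dvd_card' 2 e
    exact hC s (by rwa [Subgroup.orderOf_coe]) (hg ▸ Subgroup.orderOf_dvd_natCard _ (memC (commC s.2).symm))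
  have h3 : ¬ 9 ∣ Nat.card (centralizer ({g} : Set G)) := fun e => by
    obtain ⟨R, hR⟩ := Sylow.exists_subgroup_card_pow_prime 3 (n := 2) e
    have h3 : IsPGroup 3 (R.map (centralizer {g}).subtype) := (IsPGroup.of_card hR).map _
    obtain ⟨c, hc⟩ := h3.nonempty_fixed_point_of_prime_not_dvd_card Ω (by rw [hΩ]; norm_num)
    have h4 : g • c ≠ c := fun e => by
      obtain ⟨d, -, h4, h5⟩ : ∃ d ∈ Set.univ \ {c}, d ≠ c ∧ g • d = d := by
        obtain ⟨d, hd, e'⟩ := exists_fix_of_not_dvd (p := 7) (k := 1) (F := Set.univ \ {c}) (g := g)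
          (fun x hx => ⟨trivial, fun e' => hx.2 (MulAction.injective g (e'.trans e.symm))⟩)
          (fun x _ => by rw [pow_one, ← hg, pow_orderOf_eq_one, one_smul])
          (by rw [Set.ncard_sdiff_singleton_of_mem (Set.mem_univ c), Set.ncard_univ, hΩ]; norm_num)
        exact ⟨d, hd, hd.2, e'⟩
      have := Subgroup.orderOf_dvd_natCard (stab2 G d c) (show g ∈ _ from ⟨h5, e⟩)
      rw [hg, hK' d c h4] at this
      omega
    have h5 := card_dvd_of_le (show R.map (centralizer {g}).subtype ≤ stab2 G (g • c) c from fun x hx =>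
      ⟨smul_fix_of_comm (commC (map_subtype_le R hx)).symm (hc ⟨x, hx⟩), hc ⟨x, hx⟩⟩)
    rw [Core.card_map_subtype, hR, hK' _ _ h4] at h5
    omega
  have h4 : centralizer {g} ≤ normalizer ((zpowers g : Subgroup G) : Set G) :=
    Core.centralizer_zpowers g ▸ centralizer_le_normalizer _
  have h5 : (centralizer {g}).relIndex (normalizer ((zpowers g : Subgroup G) : Set G)) ≤ 6 := by
    rw [← Fgs.ncard_conj_by_subgroup]
    refine (Set.ncard_le_ncard (t := (zpowers g : Set G) \ {1}) ?_).trans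
      (by rw [Set.ncard_sdiff_singleton_of_mem (one_mem _), ncard_coe, hz])
    rintro _ ⟨x, hx, rfl⟩
    exact ⟨conj_mem_of_mem_normalizer hx (mem_zpowers g), ne_one_of_isConj (fun e => by simp [e] at hg)
      (isConj_conj g x)⟩
  have h6 := card_mul_relIndex' h4
  have h7 := (normalizer ((zpowers g : Subgroup G) : Set G)).card_mul_index
  have h8 : (normalizer ((zpowers g : Subgroup G) : Set G)).index % 7 = 1 := by
    have := card_sylow_modEq_one 7 G
    rwa [P.card_eq_index_normalizer] at this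
  have h9 : Nat.card (normalizer ((zpowers g : Subgroup G) : Set G)) ≤ Nat.card (zpowers g) := by
    have h9 : Nat.card (centralizer ({g} : Set G)) ∣ 21 := by
      have h9 := hG ▸ card_subgroup_dvd_card (centralizer ({g} : Set G))
      generalize Nat.card (centralizer ({g} : Set G)) = c at h1 h3 h9
      have h10 := (Nat.Coprime.pow_right 4 ((Nat.prime_two.coprime_iff_not_dvd.2 h1).symm)).dvd_of_dvd_mul_left
        (show c ∣ 2 ^ 4 * 567 from h9)
      have := Nat.le_of_dvd (by norm_num) h10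
      interval_cases c <;> omega
    rw [hz, ← h6]
    rw [← h6, hG] at h7
    have := Nat.le_of_dvd (by norm_num) h9
    generalize Nat.card (centralizer ({g} : Set G)) = c at *
    generalize (centralizer {g}).relIndex (normalizer ((zpowers g : Subgroup G) : Set G)) = d at *
    interval_cases c <;> interval_cases d <;> omega
  have h10 : normalizer (P : Set G) ≤ centralizer (P : Set G) :=
    (Core.eq_of_le_of_card_le le_normalizer h9).ge.trans (le_centralizer (zpowers g))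
  have h11 := (MonoidHom.ker_transferSylow_isComplement' P h10).card_mul_card
  rw [hG, show Nat.card (P : Subgroup G) = 7 from hz] at h11
  generalize hM : (MonoidHom.transferSylow P h10).ker = M at h11
  have : M.Normal := hM ▸ inferInstance
  have : IsPretransitive M Ω := ⟨fun c d =>
    let ⟨m, hm, e⟩ := normal_transitive_of_two_transitive h2 M (by rintro rfl; simp at h11) c d
    ⟨⟨m, hm⟩, e⟩⟩
  have h12 := (stabilizer M a).index_dvd_card
  rw [index_stabilizer_of_transitive, hΩ] at h12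
  omega

theorem even (h : AH a b τ v γ) (he : Even (Nat.card Ω)) :
    (γ = 3 ∧ Nat.card Ω = 6) ∨
    (γ = 3 ∧ Nat.card Ω = 16 ∧ ∃ (F : Type) (_ : Field F) (_ : Fintype F), Fintype.card F = 4 ∧
      Nonempty (G ≃* ((Fin 2 → F) ≃ᵃ[F] (Fin 2 → F)))) ∨
    (γ = 15 ∧ Nat.card Ω = 12) := by
  have := h.faith
  have hfix : ∀ s : G, s * s = 1 → s ≠ 1 → ∀ c : Ω, s • c = c → ∃ d, c ≠ d ∧ s • d = d := fun s hs h1 c hc =>
    let ⟨d, _, h2, h3⟩ := exists_fix_ne_of_even (F := Set.univ) (fun _ _ => trivial)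
      (fun x _ => by rw [← mul_smul, hs, one_smul]) (by rwa [Set.ncard_univ]) trivial hc
    ⟨d, h2.symm, h3⟩
  have hH := (tt_top h.two).card_stab trivial trivial h.hab
  rw [top_inf_eq, top_inf_eq, Set.ncard_univ, h.cardK] at hH
  have h8 : ¬ 8 ∣ Nat.card (stabilizer G a) := by
    obtain ⟨m, hm⟩ := he
    rw [hm] at hH
    rcases h.gam with rfl | rfl <;> omega
  let u : stabilizer G a := ⟨τ, h.τK.1⟩
  let w : stabilizer G a := ⟨v, h.vK.1⟩
  have hu : orderOf u = 2 := D4.ord_sub h.oτ _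
  have hw : orderOf w = 2 := D4.ord_sub h.ov _
  have hne : u ≠ w := fun e => h.ne (congrArg Subtype.val e)
  have hc : u * w = w * u := Subtype.ext h.comm
  have hone : ∀ s t : stabilizer G a, orderOf s = 2 → orderOf t = 2 → IsConj s t := by
    have : ∀ s : stabilizer G a, orderOf s = 2 → IsConj u s := fun s hs => by
      obtain ⟨h1, h2⟩ := orderOf_eq_two_iff'.1 (Subgroup.orderOf_coe s ▸ hs :)
      obtain ⟨d, h3, h4⟩ := hfix s h1 h2 a s.2
      obtain ⟨g, h5, -, h6⟩ := h.conj_of_fix h1 h2 h3 s.2 h4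
      exact isConj_iff.2 ⟨⟨g, h5⟩, Subtype.ext h6⟩
    exact fun s t hs ht => (this s hs).symm.trans (this t ht)
  have hcen : ∀ s : stabilizer G a, centralizer {s} = (centralizer {(s : G)}).subgroupOf (stabilizer G a) :=
    fun s => Subgroup.ext fun g => by simp [mem_subgroupOf, mem_centralizer_singleton_iff, Subtype.ext_iff]
  have h1 := h.tC.card_stab h.aF.1 h.bF.1 h.hab
  rw [h.card_CK, ← Core.card_subgroupOf, ← hcen u] at h1
  have h2 := h.tN.card_stab h.aF h.bF h.hab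
  have h3 : NV τ v h.ττ ⊓ stab2 G a b = centralizer {τ} ⊓ stab2 G a b :=
    le_antisymm (fun g hg => ⟨memC hg.1.1, hg.2⟩) fun g hg => ⟨⟨commC hg.1, .inl (mul_inv_eq_iff_eq_mul.2 (by
      rcases h.cent g hg.2 (commC hg.1) with rfl | rfl | rfl | rfl
      exacts [by simp, h.comm, rfl, by rw [mul_assoc, ← mul_assoc v, ← h.comm, mul_assoc]]))⟩, hg.2⟩
  have h4 : (NV τ v h.ττ).subgroupOf (stabilizer G a) = centralizer {w} ⊓ centralizer {u} :=
    Subgroup.ext fun g => ⟨fun hg => ⟨memC (mul_inv_eq_iff_eq_mul.1 (Subtype.ext (hg.2.resolve_right fun e =>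
      D4.no_swap hu hw hne hc h8 (g := g) (memC (Subtype.ext hg.1)) (Subtype.ext e)))), memC (Subtype.ext hg.1)⟩,
      fun hg => ⟨congrArg Subtype.val (commC hg.2), .inl (mul_inv_eq_iff_eq_mul.2 (congrArg Subtype.val (commC hg.1)))⟩⟩
  rw [h3, h.card_CK, ← Core.card_subgroupOf, h4] at h2
  have h5 := relIndex_mul_card_inf (centralizer {w}) (centralizer {u})
  have h6 := (centralizer {u}).card_mul_index
  obtain ⟨y, ε, hε, hy, e⟩ := four_count hu hw hne hc h8 hone
  obtain ⟨k, hk, hj⟩ : ∃ k, 1 ≤ k ∧ (fixedBy Ω τ ∩ fixedBy Ω v).ncard = 2 ^ k := by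
    obtain ⟨X, π, hs, h7, h9⟩ := h.tN.exists_image
    have : Nontrivial ↥(fixedBy Ω τ ∩ fixedBy Ω v) := ⟨⟨a, h.aF⟩, ⟨b, h.bF⟩, fun e => h.hab (congrArg Subtype.val e)⟩
    obtain ⟨p, k, hp, hk, e, -⟩ := IsSharp2.exists_prime_pow (G := X) (Ω := ↥(fixedBy Ω τ ∩ fixedBy Ω v))
      ⟨fun h1 h2 => is_two_pretransitive_iff.1 h9 h1 h2, fun {g c d} hcd h1 h2 => by
        obtain ⟨g, rfl⟩ := hs g
        refine Subtype.ext (Equiv.ext fun x => Subtype.ext ((h7 g x).trans ?_))
        rcases h.mem_V g.2.1 c.2 d.2 (fun e => hcd (Subtype.ext e)) ((h7 g c).symm.trans (congrArg _ h1))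
          ((h7 g d).symm.trans (congrArg _ h2)) with e | e | e | e <;> rw [e]
        exacts [one_smul _ _, x.2.1, x.2.2, by rw [mul_smul, x.2.2]; exact x.2.1]⟩
    have h10 := ncard_mod_two (F := fixedBy Ω τ) (g := v) (h.tC.inv v (memC h.comm.symm))
      fun x _ => by rw [← mul_smul, h.vv, one_smul]
    have h11 : Nat.card Ω % 2 = (fixedBy Ω τ).ncard % 2 := card_modEq_card_fixedBy_two h.ττ
    rw [Set.inter_comm, show (fixedBy Ω τ ∩ fixedBy Ω v).ncard = p ^ k from e, ← h11, Nat.even_iff.1 he] at h10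
    obtain rfl := (Nat.prime_dvd_prime_iff_eq Nat.prime_two hp).1
      (Nat.prime_two.dvd_of_dvd_pow (Nat.dvd_of_mod_eq_zero h10.symm))
    exact ⟨k, hk, e⟩
  have h7 := h.cnt.1
  have h9 : 1 < (fixedBy Ω τ).ncard := (Set.one_lt_ncard (Set.toFinite _)).2 ⟨a, h.aF.1, b, h.bF.1, h.hab⟩
  zify at h5 h6
  rw [hj] at h2
  have h10 := ev_arith (γ := γ) (β := (sw (cl τ) a b).ncard) (i := (fixedBy Ω τ).ncard) (y := y)
    (x := (centralizer {w}).relIndex (centralizer {u})) hk hε
    (by rcases h.gam with rfl | rfl <;> rcases h.beta with ⟨-, e | e | e⟩ | ⟨-, e, -⟩ <;> simp [e])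
    (by have := h.tri
        rw [hj] at this
        zify at this
        rcases this with e | e | ⟨e, -⟩
        exacts [.inl e, .inr (.inl e), .inr (.inr (by linear_combination e))])
    (by rw [h1, h2] at h5; push_cast at h5; linarith) (by exact_mod_cast hy) (by
      rw [← e]
      refine mul_left_cancel₀ (show ((fixedBy Ω τ).ncard - 1 : ℤ) ≠ 0 by omega) ?_
      rw [h1, hH] at h6
      push_cast at h6
      linarith)
  simp only [List.mem_cons, Prod.mk.injEq, List.not_mem_nil, or_false] at h10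
  have hY : (sw (cl τ) a b).ncard = 6 ∨ (sw (cl τ) a b).ncard = 10 →
      TypY a b τ v γ ∧ ∀ s : G, s * s = 1 → s ≠ 1 → IsConj τ s := fun e =>
    (h.beta.resolve_left fun e' => by have := h.gam; omega).imp_right And.right
  have hG := (tt_top h.two).card_grp trivial trivial h.hab
  rw [top_inf_eq, card_top, Set.ncard_univ, h.cardK] at hG
  rcases h10 with ⟨⟨e1, e2⟩, e3, rfl⟩ | ⟨⟨e1, e2⟩, e3, rfl⟩ | ⟨⟨e1, e2⟩, e3, rfl⟩ | ⟨⟨e1, e2⟩, e3, rfl⟩ |
    ⟨⟨e1, e2⟩, e3, rfl⟩ <;> rw [e1, e2, e3] at h7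
  rotate_left
  · exact .inl ⟨by omega, by omega⟩
  · refine (not28 h.two h.hab (by omega) (by rw [h.cardK]; omega) fun s hs => ?_).elim
    obtain ⟨g, rfl⟩ := isConj_iff.1 ((hY (by omega)).2 s (orderOf_eq_two_iff'.1 hs).1 (orderOf_eq_two_iff'.1 hs).2)
    have := h.tC.card_grp h.aF.1 h.bF.1 h.hab
    rw [h.card_CK, e3] at this
    rw [← cj_centralizer_singleton, card_cj]
    omega
  · exact .inr (.inr ⟨by omega, by omega⟩)
  · have := h.tri
    rw [hj] at this
    exact ((this.resolve_left (by omega)).resolve_left (by omega)).2.elim (hY (by omega)).1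
  have hΩ : Nat.card Ω = 16 := by omega
  obtain rfl : γ = 3 := by omega
  refine .inr (.inl ⟨rfl, hΩ, ?_⟩)
  obtain ⟨I, hI, ha, hb, hc'⟩ := (h.beta.resolve_right fun e => by simp at e; omega).1
  have hI1 : I ≠ 1 := fun e => h.hab (by simpa [e] using ha)
  have h10 := h.sw_X1 hI ha hb hc'
  have h11 : ((I * ·) '' f2 (cl τ) a b).ncard = 3 := by
    rw [Set.ncard_image_of_injective _ (mul_right_injective I), h.f2_card]
  have p2 : IsConj τ (I * τ) := by
    by_contra p2
    have := Set.ncard_le_ncard (show sw (cl τ) a b ⊆ {I} from fun s hs =>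
      (((h10 s).1 hs).resolve_right fun e => p2 e.2).1)
    rw [Set.ncard_singleton] at this
    omega
  have p1 : ¬ IsConj τ I := fun p1 => by
    have := Set.ncard_le_ncard (show insert I ((I * ·) '' f2 (cl τ) a b) ⊆ sw (cl τ) a b from fun s hs =>
      (h10 s).2 (hs.imp (⟨·, p1⟩) (⟨·, p2⟩)))
    rw [Set.ncard_insert_of_notMem (by
      rintro ⟨u, hu, e⟩
      exact ne_one_of_isConj h.τ1 hu.1 (by simpa using e)), h11] at this
    omega
  have h12 := mem_pCore_of_sharp (k := 4) hΩ hI fun s hs c hc => by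
    have h12 : c ≠ I • c := fun e => by
      obtain ⟨d, h12, h13⟩ := hfix I hI hI1 c e.symm
      obtain ⟨g, -, -, h14⟩ := h.conj_of_fix hI hI1 h12 e.symm h13
      exact p1 (isConj_iff.2 ⟨g, h14⟩)
    obtain ⟨g, h13, h14⟩ := exists_smul_pair h.two h12 h.hab
    have h15 : ∀ s : G, IsConj I s → s • c = I • c → g * s * g⁻¹ = I := fun s hs hc => by
      have h15 := mul_self_of_isConj hI hs
      refine (h.sw_X hI ha hb hc' (conj_mul_self h15 g) (by rw [← h13, conj_smul, hc, h14])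
        (by rw [← h14, conj_smul, ← hc, ← mul_smul s, h15, one_smul, h13])).resolve_right ?_
      rintro ⟨k, -, -, e⟩
      exact p1 ((p2.trans (e ▸ isConj_conj _ k)).trans (hs.trans (isConj_conj s g)).symm)
    simpa using (h15 s hs hc).trans (h15 I (.refl I) rfl).symm
  obtain ⟨N, hN⟩ : ∃ N : Subgroup G, Reg Ω N := by
    by_contra e
    exact hI1 (mem_bot.1 (pCore_eq_bot h.two (fun N hN => e ⟨N, hN⟩) 2 ▸ h12))
  obtain ⟨ρ, hρ, h13, h14⟩ := h.rho
  rw [e3] at h1
  rw [hΩ] at hH hG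
  obtain ⟨z, h15, h16⟩ := cent3 (by omega) hu hw hne hc hone (fun g hg => commC ((Core.eq_of_le_of_card_le
    inf_le_right (by omega) : centralizer {w} ⊓ centralizer {u} = _).ge (memC hg)).1) (by omega) (ρ := ⟨ρ, hρ.1⟩)
    (Subtype.ext h13) (Subtype.ext h14)
  exact agl24 h.two hΩ (by omega) hN.normal hN.trans hN.free z.2 (by rwa [Subgroup.orderOf_coe])
    fun g hg => congrArg Subtype.val (h16 ⟨g, hg⟩)

end CfsgLib.Kim.AH
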