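import Mathlib
import Cfsg.Agent.Lib.Kim.AH1
import Cfsg.Agent.Lib.ZStar.Main

/-! PERM3 / S3219, S3262: odd degree, generalities and type X. -/

set_option autoImplicit false
set_option linter.unusedSectionVars false

namespace CfsgLib.Kim

open Subgroup MulAction CfsgLib.Perm

variable {G : Type*} {Ω : Type*} [Group G] [MulAction G Ω] [Finite G] [Finite Ω]
  {a b : Ω} {τ v : G} {γ : ℕ}

/-- a 2-element without property `p` has a power without `p` whose square has `p` -/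
theorem od_exists_sq {p : G → Prop} (h1 : p 1) {x : G} {k : ℕ} (hk : x ^ 2 ^ k = 1) (hx : ¬ p x) :
    ∃ m : ℕ, ¬ p (x ^ m) ∧ p (x ^ m * x ^ m) := by
  induction k generalizing x with
  | zero => exact absurd (by rw [pow_zero, pow_one] at hk; rwa [hk]) hx
  | succ k ih =>
    by_cases e : p (x * x)
    · exact ⟨1, by rwa [pow_one], by rwa [pow_one]⟩
    · obtain ⟨m, e1, e2⟩ := ih (x := x * x) (by rw [← sq, ← pow_mul, ← pow_succ', hk]) e
      refine ⟨2 * m, ?_, ?_⟩ <;> rwa [pow_mul, sq]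

theorem od_ncard_conj {C : Subgroup G} {F : Set Ω} (h : TT C F) {g : G} (hg : g ∈ C) (s : G) :
    (fixedBy Ω (g * s * g⁻¹) ∩ F).ncard = (fixedBy Ω s ∩ F).ncard := by
  symm
  refine Set.ncard_congr (fun x _ => g • x) (fun x hx => ⟨(conj_smul_iff g s x x).2 hx.1,
    h.inv g hg x hx.2⟩) (fun x y _ _ e => MulAction.injective g e) (fun x hx => ⟨g⁻¹ • x,
      ⟨(conj_smul_iff g s _ _).1 (by rw [smul_inv_smul]; exact hx.1),
        h.inv _ (C.inv_mem hg) x hx.2⟩, smul_inv_smul g x⟩)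

theorem od_conj_sw {C : Subgroup G} {F : Set Ω} (h : TT C F) (ha : a ∈ F) (hb : b ∈ F)
    (hab : a ≠ b) {s : G} (hs : s ∈ C) {c : Ω} (hc : c ∈ F) (h1 : s • c ≠ c)
    (h2 : s • s • c = c) : ∃ g ∈ C, (g * s * g⁻¹) • a = b ∧ (g * s * g⁻¹) • b = a := by
  obtain ⟨g, hg, e1, e3⟩ := h.two hc (h.inv s hs c hc) ha hb h1.symm hab
  refine ⟨g, hg, ?_, ?_⟩
  · rw [← e1, ← e3, conj_smul]
  · rw [← e1, ← e3, conj_smul, h2]

theorem od_conj_comm {g t s : G} (hg : g * t = t * g) (hs : s * t = t * s) :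
    g * s * g⁻¹ * t = t * (g * s * g⁻¹) :=
  commC (mul_mem (mul_mem (memC hg) (memC hs)) (inv_mem (memC hg)))

namespace AH

variable (h : AH a b τ v γ)
include h

theorem od_vv : v * v = 1 := (orderOf_eq_two_iff'.1 h.ov).1
theorem od_τ1 : τ ≠ 1 := (orderOf_eq_two_iff'.1 h.oτ).2
theorem od_v1 : v ≠ 1 := (orderOf_eq_two_iff'.1 h.ov).2
theorem od_ww : τ * v * (τ * v) = 1 := by
  rw [mul_assoc, ← mul_assoc v, ← h.comm, mul_assoc, h.od_vv, mul_one, h.ττ]
theorem od_w1 : τ * v ≠ 1 := fun e => h.ne (by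
  rw [eq_inv_of_mul_eq_one_left e, inv_eq_of_mul_eq_one_right h.od_vv])
theorem od_wτ : τ * v ≠ τ := fun e => h.od_v1 (by simpa using e)
theorem od_wv : τ * v ≠ v := fun e => h.od_τ1 (by simpa using e)
theorem od_cv : IsConj τ v := by
  obtain ⟨ρ, -, e, -⟩ := h.rho
  exact isConj_iff.2 ⟨ρ, e⟩
theorem od_cw : IsConj τ (τ * v) := by
  obtain ⟨ρ, -, -, e⟩ := h.rho
  exact h.od_cv.trans (isConj_iff.2 ⟨ρ, e⟩)
theorem od_aF : a ∈ fixedBy Ω τ := h.τK.1
theorem od_bF : b ∈ fixedBy Ω τ := h.τK.2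
theorem od_aΦ : a ∈ fixedBy Ω τ ∩ fixedBy Ω v := ⟨h.τK.1, h.vK.1⟩
theorem od_bΦ : b ∈ fixedBy Ω τ ∩ fixedBy Ω v := ⟨h.τK.2, h.vK.2⟩
theorem od_vC : v ∈ centralizer ({τ} : Set G) := memC h.comm.symm

theorem od_sqV {g : G} (hg : g = 1 ∨ g = τ ∨ g = v ∨ g = τ * v) : g * g = 1 := by
  rcases hg with rfl | rfl | rfl | rfl
  exacts [mul_one _, h.ττ, h.od_vv, h.od_ww]

theorem od_commV {g : G} (hg : g = 1 ∨ g = τ ∨ g = v ∨ g = τ * v) : g * v = v * g := by
  rcases hg with rfl | rfl | rfl | rfl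
  exacts [by simp, h.comm, rfl, by rw [← mul_assoc, h.comm]]

theorem od_oddF (ho : Odd (Nat.card Ω)) : Odd (fixedBy Ω τ).ncard := by
  have : Nat.card Ω % 2 = (fixedBy Ω τ).ncard % 2 := card_modEq_card_fixedBy_two h.ττ
  rw [Nat.odd_iff] at ho ⊢
  omega

theorem od_oddΦ (ho : Odd (Nat.card Ω)) : Odd (fixedBy Ω τ ∩ fixedBy Ω v).ncard := by
  have := ncard_mod_two (h.tC.inv v h.od_vC) (fun x _ => by rw [← mul_smul, h.od_vv, one_smul])
  have e := h.od_oddF ho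
  rw [Nat.odd_iff] at e ⊢
  rw [Set.inter_comm]
  omega

theorem od_three (ho : Odd (Nat.card Ω)) : 2 < (fixedBy Ω τ ∩ fixedBy Ω v).ncard := by
  have e : 1 < (fixedBy Ω τ ∩ fixedBy Ω v).ncard :=
    (Set.one_lt_ncard (Set.toFinite _)).2 ⟨a, h.od_aΦ, b, h.od_bΦ, h.hab⟩
  have := Nat.odd_iff.1 (h.od_oddΦ ho)
  omega

theorem od_cent {g : G} (hg : g * τ = τ * g) (ha : g • a = a) (hb : g • b = b) :
    g = 1 ∨ g = τ ∨ g = v ∨ g = τ * v := h.cent g ⟨ha, hb⟩ hg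

theorem od_cardC : (Nat.card (centralizer ({τ} : Set G)) : ℤ) =
    (fixedBy Ω τ).ncard * ((fixedBy Ω τ).ncard - 1) * 4 := by
  rw [h.tC.card_grp h.od_aF h.od_bF h.hab]
  congr 1
  have : ((centralizer ({τ} : Set G) ⊓ stab2 G a b : Subgroup G) : Set G) = {1, τ, v, τ * v} := by
    ext g
    refine ⟨fun hg => h.cent g hg.2 (commC hg.1), ?_⟩
    rintro (rfl | rfl | rfl | rfl)
    exacts [one_mem _, ⟨memC rfl, h.τK⟩, ⟨h.od_vC, h.vK⟩,
      ⟨mul_mem (memC rfl) h.od_vC, mul_mem h.τK h.vK⟩]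
  rw [← ncard_coe, this, Set.ncard_insert_of_notMem, Set.ncard_insert_of_notMem,
    Set.ncard_pair h.od_wv.symm]
  · rfl
  · rintro (e | e)
    exacts [h.ne e, h.od_wτ e.symm]
  · rintro (e | e | e)
    exacts [h.od_τ1 e.symm, h.od_v1 e.symm, h.od_w1 e.symm]

/-- an element of `C(τ)` fixing two points of `Fix τ` is an involution -/
theorem od_sq_of_fix {g : G} (hg : g * τ = τ * g) {c d : Ω} (hc : τ • c = c) (hd : τ • d = d)
    (hcd : c ≠ d) (e1 : g • c = c) (e2 : g • d = d) : g * g = 1 := by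
  obtain ⟨u, hu, rfl, rfl⟩ := h.tC.two h.od_aF h.od_bF hc hd h.hab hcd
  have := h.od_sqV (h.od_cent (od_conj_comm (commC (inv_mem hu)) hg)
    (by rw [inv_inv, mul_smul, mul_smul, e1, inv_smul_smul])
    (by rw [inv_inv, mul_smul, mul_smul, e2, inv_smul_smul]))
  rw [show g = u * (u⁻¹ * g * u⁻¹⁻¹) * u⁻¹ by group]
  exact conj_mul_self this u

/-- two elements of `C(τ)` interchanging `a`, `b` differ by an element of `V` -/
theorem od_sw {I s : G} (hI : I * τ = τ * I) (ha : I • a = b) (hb : I • b = a)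
    (hs : s * τ = τ * s) (ha' : s • a = b) (hb' : s • b = a) :
    ∃ x, (x = 1 ∨ x = τ ∨ x = v ∨ x = τ * v) ∧ s = I * x :=
  ⟨I⁻¹ * s, h.od_cent (commC (mul_mem (inv_mem (memC hI)) (memC hs)))
    (by rw [mul_smul, ha', inv_smul_eq_iff, ha]) (by rw [mul_smul, hb', inv_smul_eq_iff, hb]),
    by group⟩

theorem od_exists_I : ∃ I, IsConj τ I ∧ I • a = b ∧ I • b = a := by
  have := h.faith
  obtain ⟨c, hc⟩ := exists_moved (Ω := Ω) h.od_τ1
  obtain ⟨g, hg⟩ := exists_conj_sw h.two h.hab h.ττ hc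
  exact ⟨_, isConj_conj τ g, hg⟩

/-- type X: the involutions interchanging `a`, `b` -/
theorem od_X {I : G} (hI : I * I = 1) (ha : I • a = b) (hb : I • b = a)
    (hK : ∀ k ∈ stab2 G a b, I * k = k * I) {s : G} (hs : s * s = 1) (ha' : s • a = b)
    (hb' : s • b = a) : s = I ∨ IsConj (I * τ) s := by
  have e1 := mul_mem_stab2_of_swap ha hb ha' hb'
  have e2 : s = I * (I * s) := by rw [← mul_assoc, hI, one_mul]
  by_cases e : I * s = 1
  · exact Or.inl (by rw [e2, e, mul_one])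
  obtain ⟨k, hk, e3⟩ := h.conjK _ e1 (by
    rw [← mul_assoc, ← hK _ e1, ← e2, hs]) e
  refine Or.inr (isConj_iff.2 ⟨k, ?_⟩)
  rw [e2, ← e3, ← mul_assoc, ← hK k hk]; group

theorem od_case0 (ho : Odd (Nat.card Ω)) {I : G} (hI : I * I = 1) (ha : I • a = b) (hb : I • b = a)
    (hK : ∀ k ∈ stab2 G a b, I * k = k * I) (hn : ¬ IsConj τ I) :
    ∃ J : G, orderOf J = 2 ∧ (∃ c : Ω, centralizer ({J} : Set G) ≤ stabilizer G c) ∧
      centralizer ({J} : Set G) ⊔ Cfsg.oddCore G = ⊤ := by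
  have I1 : I ≠ 1 := fun e => h.hab (by rw [← ha, e, one_smul])
  have Zf : ∀ s ∈ cl I, (fixedBy Ω s).ncard = 1 := fun s hs => by
    have e2 : Nat.card Ω % 2 = (fixedBy Ω s).ncard % 2 :=
      card_modEq_card_fixedBy_two (mul_self_of_isConj hI hs)
    have e1 : ¬ 1 < (fixedBy Ω s).ncard := fun e => by
      obtain ⟨c, hc, d, hd, hcd⟩ := (Set.one_lt_ncard (Set.toFinite _)).1 e
      obtain ⟨g, -, -, e3⟩ := h.conj_of_fix (mul_self_of_isConj hI hs) (ne_one_of_isConj I1 hs)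
        hcd hc hd
      exact hn ((isConj_iff.2 ⟨g, e3⟩).trans hs.symm)
    have := Nat.odd_iff.1 ho
    omega
  obtain ⟨c, hc⟩ := Set.ncard_eq_one.1 (Zf I (IsConj.refl I))
  have hIc : I • c = c := show c ∈ fixedBy Ω I from hc ▸ rfl
  have hfix : ∀ g : G, g * I = I * g → g • c = c := fun g hg =>
    show g • c ∈ ({c} : Set Ω) from hc ▸ smul_fix_of_comm hg hIc
  have e1 := (tt_top h.two).cnt_f1_of_one (cl_conj I) (fun _ _ => trivial)
    (fun s hs x _ => by rw [← mul_smul, mul_self_of_isConj hI hs, one_smul])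
    (fun s hs => by rw [Set.inter_univ, Zf s hs]) trivial trivial h.hab (c := c) trivial
  have e2 : sw (cl I) a b = {I} := Set.eq_singleton_iff_unique_mem.2
    ⟨⟨IsConj.refl I, ha, hb⟩, fun s hs => by
      refine (h.od_X hI ha hb hK (mul_self_of_isConj hI hs.1) hs.2.1 hs.2.2).resolve_right
        fun e => ?_
      obtain ⟨I', e3, e4, e5⟩ := h.od_exists_I
      rcases h.od_X hI ha hb hK (mul_self_of_isConj h.ττ e3) e4 e5 with e6 | e6
      · exact hn (e6 ▸ e3)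
      · exact hn (e3.trans (e6.symm.trans (e.trans hs.1.symm)))⟩
  rw [e2, Set.ncard_singleton] at e1
  have oI : orderOf I = 2 := orderOf_eq_two_iff'.2 ⟨hI, I1⟩
  have iso : Cfsg.IsIsolatedInvolution I := ⟨oI, fun g hg =>
    (Set.ncard_le_one (Set.toFinite _)).1 e1.le _ ⟨isConj_conj I g, hfix _ hg.symm⟩ _
      ⟨IsConj.refl I, hIc⟩⟩
  refine ⟨I, oI, ⟨c, fun g hg => hfix g (commC hg)⟩, eq_top_iff.2 fun g _ => ?_⟩
  have e3 : I * (g * I * g⁻¹) ∈ Cfsg.pPrimeCore 2 G := by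
    have := ZStar.zstar iso g
    rwa [inv_eq_of_mul_eq_one_right hI, mul_assoc, mul_assoc, ← mul_assoc g] at this
  obtain ⟨k, hk⟩ := Invol.exists_pow_conj_of_odd hI (conj_mul_self hI g)
    (Invol.odd_orderOf_of_mem (Core.odd_card_oddCore G) e3)
  generalize hu : (I * (g * I * g⁻¹)) ^ k = u at hk
  have e4 : u ∈ Cfsg.pPrimeCore 2 G := hu ▸ pow_mem e3 k
  rw [show g = u * (u⁻¹ * g) by group]
  refine mul_mem (mem_sup_right e4) (mem_sup_left (memC ?_))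
  calc u⁻¹ * g * I = u⁻¹ * (g * I * g⁻¹) * g := by group
    _ = _ := by rw [← hk]; group

theorem od_oneY (hY : TypY a b τ v γ) {s : G} (hs : s * s = 1) (h1 : s ≠ 1) : IsConj τ s := by
  have := h.faith
  obtain ⟨c, hc⟩ := exists_moved (Ω := Ω) h1
  obtain ⟨g, e1, e2⟩ := exists_conj_sw h.two h.hab hs hc
  obtain ⟨I, e3, e4, e5⟩ := h.od_exists_I
  obtain ⟨k, -, e6⟩ := hY.conj _ _ (mul_self_of_isConj h.ττ e3) e4 e5 (conj_mul_self hs g) e1 e2
  exact e3.trans ((isConj_iff.2 ⟨k, e6⟩).trans (isConj_conj s g).symm)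

theorem od_moved (hne : (fixedBy Ω τ).ncard ≠ (fixedBy Ω τ ∩ fixedBy Ω v).ncard) :
    ∃ c ∈ fixedBy Ω τ, v • c ≠ c := by
  by_contra e
  push Not at e
  exact hne (by rw [Set.inter_eq_left.2 (show fixedBy Ω τ ⊆ fixedBy Ω v from e)])

theorem od_sq_of_ne (ho : Odd (Nat.card Ω))
    (hne : (fixedBy Ω τ).ncard ≠ (fixedBy Ω τ ∩ fixedBy Ω v).ncard) :
    (fixedBy Ω τ).ncard = (fixedBy Ω τ ∩ fixedBy Ω v).ncard ^ 2 := by
  obtain ⟨X, π, h1, h2, h3⟩ := h.tC.exists_image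
  have : Finite X := Finite.of_surjective π h1
  have hτ : π ⟨τ, memC rfl⟩ = 1 :=
    eq_of_smul_eq_smul (α := fixedBy Ω τ) fun x => Subtype.ext (by rw [h2, one_smul]; exact x.2)
  have hK : ∀ k ∈ stab2 X (⟨a, h.od_aF⟩ : fixedBy Ω τ) ⟨b, h.od_bF⟩,
      k = 1 ∨ k = π ⟨v, h.od_vC⟩ := by
    intro k hk
    obtain ⟨⟨c, hc⟩, rfl⟩ := h1 k
    rcases h.od_cent (commC hc) ((h2 _ _).symm.trans (congrArg Subtype.val hk.1))
      ((h2 _ _).symm.trans (congrArg Subtype.val hk.2)) with rfl | rfl | rfl | rfl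
    · exact Or.inl (map_one π)
    · exact Or.inl hτ
    · exact Or.inr rfl
    · exact Or.inr (by rw [← one_mul (π ⟨v, h.od_vC⟩), ← hτ, ← map_mul]; rfl)
  have hj : (fixedBy (fixedBy Ω τ) (π ⟨v, h.od_vC⟩)).ncard =
      (fixedBy Ω τ ∩ fixedBy Ω v).ncard := by
    refine Set.ncard_congr (fun x _ => x.1) (fun x hx => ⟨x.2, (h2 _ _).symm.trans
      (congrArg Subtype.val hx)⟩) (fun x y _ _ e => Subtype.ext e)
      (fun x hx => ⟨⟨x, hx.1⟩, Subtype.ext ((h2 _ _).trans hx.2), rfl⟩)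
  have hU : UH (⟨a, h.od_aF⟩ : fixedBy Ω τ) ⟨b, h.od_bF⟩ (π ⟨v, h.od_vC⟩) :=
    { two := h3
      faith := inferInstance
      hab := fun e => h.hab (congrArg Subtype.val e)
      ta := Subtype.ext ((h2 _ _).trans h.vK.1)
      tb := Subtype.ext ((h2 _ _).trans h.vK.2)
      t1 := fun e => by
        obtain ⟨c, hc, e1⟩ := h.od_moved hne
        have := h2 ⟨v, h.od_vC⟩ ⟨c, hc⟩
        rw [e, one_smul] at this
        exact e1 this.symm
      big := hj ▸ h.od_three ho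
      uniq := fun s e1 e2 e3 _ => (hK s ⟨e1, e2⟩).resolve_left e3 }
  obtain ⟨I, e1, e2, e3⟩ := hU.exists_I
  have e4 := hU.odd_K2 (h.od_oddF ho) hK e1 e2 e3
  have e5 := hU.cnt.1
  have e6 : sw (cl (π ⟨v, h.od_vC⟩)) (⟨a, h.od_aF⟩ : fixedBy Ω τ) ⟨b, h.od_bF⟩ = {I} :=
    Set.eq_singleton_iff_unique_mem.2 ⟨⟨e1, e2, e3⟩, fun s hs => by
      rcases hK (I⁻¹ * s) ⟨show _ • _ = _ by rw [mul_smul, hs.2.1, inv_smul_eq_iff, e2],
        show _ • _ = _ by rw [mul_smul, hs.2.2, inv_smul_eq_iff, e3]⟩ with e | e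
      · exact (inv_mul_eq_one.1 e).symm
      · exact absurd (inv_mul_eq_iff_eq_mul.1 e ▸ hs.1) e4⟩
  rw [e6, Set.ncard_singleton, hj, Nat.card_coe_set_eq] at e5
  zify
  linear_combination e5

theorem od_case2 (ho : Odd (Nat.card Ω))
    (hne : (fixedBy Ω τ).ncard ≠ (fixedBy Ω τ ∩ fixedBy Ω v).ncard) {I : G} (ha : I • a = b)
    (hb : I • b = a) (hK : ∀ k ∈ stab2 G a b, I * k = k * I) (hn : IsConj τ I) : False := by
  have := h.faith
  have hI := mul_self_of_isConj h.ττ hn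
  have hIτ := hK τ h.τK
  have hsw : ∀ s : G, s * τ = τ * s → s • a = b → s • b = a → s * s = 1 := fun s e1 e2 e3 => by
    obtain ⟨x, hx, rfl⟩ := h.od_sw hIτ ha hb e1 e2 e3
    have e4 : x ∈ stab2 G a b := by
      rcases hx with rfl | rfl | rfl | rfl
      exacts [one_mem _, h.τK, h.vK, mul_mem h.τK h.vK]
    rw [mul_assoc, ← mul_assoc x, ← hK x e4, mul_assoc, h.od_sqV hx, mul_one, hI]
  have hIt : IsConj τ (I * τ) := by
    obtain ⟨c, hc, e1⟩ := h.od_moved hne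
    obtain ⟨g, hg, e2, e3⟩ := od_conj_sw h.tC h.od_aF h.od_bF h.hab h.od_vC hc e1
      (by rw [← mul_smul, h.od_vv, one_smul])
    rcases h.od_X hI ha hb hK (conj_mul_self h.od_vv g) e2 e3 with e | e
    · refine h.od_cw.trans (isConj_iff.2 ⟨g, ?_⟩)
      rw [hIτ, ← e, ← mul_assoc, commC hg]; group
    · exact h.od_cv.trans ((isConj_conj v g).trans e.symm)
  have one : ∀ s : G, s * s = 1 → s ≠ 1 → IsConj τ s := fun s hs h1 => by
    obtain ⟨c, hc⟩ := exists_moved (Ω := Ω) h1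
    obtain ⟨g, e1, e2⟩ := exists_conj_sw h.two h.hab hs hc
    rcases h.od_X hI ha hb hK (conj_mul_self hs g) e1 e2 with e | e
    · exact hn.trans (e ▸ (isConj_conj s g).symm)
    · exact hIt.trans (e.trans (isConj_conj s g).symm)
  have nsq : ∀ y : G, y * y ≠ τ := fun y hy => by
    have hyτ : y * τ = τ * y := by rw [← hy, mul_assoc]
    by_cases e : ∀ x ∈ fixedBy Ω τ, y • x = x
    · exact h.od_τ1 (hy.symm.trans (h.od_sqV (h.od_cent hyτ (e a h.od_aF) (e b h.od_bF))))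
    · push Not at e
      obtain ⟨c, hc, e⟩ := e
      obtain ⟨g, hg, e2, e3⟩ := od_conj_sw h.tC h.od_aF h.od_bF h.hab (memC hyτ) hc e
        (by rw [← mul_smul, hy]; exact hc)
      have := hsw _ (od_conj_comm (commC hg) hyτ) e2 e3
      refine h.od_τ1 (conj_eq_one_iff.1 (show g * τ * g⁻¹ = 1 from ?_))
      rw [← this, ← hy]; group
  obtain ⟨S, hτS, hvS⟩ := Invol.exists_sylow_mem_of_commute (Invol.isPGroup_zpowers_of_mul_self h.ττ)
    (Invol.isPGroup_zpowers_of_mul_self h.od_vv) h.comm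
  have hsq : ∀ y ∈ (S : Subgroup G), y * y = 1 := fun y hy => by
    by_contra e
    obtain ⟨k, hk⟩ := Invol.exists_pow_eq_one_of_mem_sylow S hy
    obtain ⟨m, e1, e2⟩ := od_exists_sq (p := fun x : G => x * x = 1) (mul_one _) hk e
    obtain ⟨g, e3⟩ := isConj_iff.1 (one _ e2 e1).symm
    exact nsq (g * y ^ m * g⁻¹) (by rw [← e3]; group)
  have hSN : ∀ y ∈ (S : Subgroup G), y ∈ NV τ v h.ττ := fun y hy =>
    ⟨Reg.comm_of_sq hsq hy hτS, Or.inl (by rw [Reg.comm_of_sq hsq hy hvS, mul_inv_cancel_right])⟩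
  obtain ⟨c, hc, hSc⟩ := exists_fix_of_isPGroup S.isPGroup'
    (fun g hg => h.tN.inv g (hSN g hg)) (h.od_oddΦ ho)
  have mv : ∀ y ∈ (S : Subgroup G), y ∉ ({1, τ, v, τ * v} : Set G) →
      ∃ x ∈ fixedBy Ω τ ∩ fixedBy Ω v, y • x ≠ x := fun y hy e => by
    by_contra e1
    push Not at e1
    exact e (h.od_cent (hSN y hy).1 (e1 a h.od_aΦ) (e1 b h.od_bΦ))
  have h8 : Nat.card (S : Subgroup G) ≤ 8 := by
    rw [← ncard_coe]
    by_cases e : ∃ s ∈ (S : Subgroup G), s ∉ ({1, τ, v, τ * v} : Set G)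
    · obtain ⟨s, hs, e⟩ := e
      have : ((S : Subgroup G) : Set G) ⊆ {1, τ, v, τ * v} ∪ {s, s * τ, s * v, s * (τ * v)} := by
        intro y hy
        by_cases e1 : y ∈ ({1, τ, v, τ * v} : Set G)
        · exact Or.inl e1
        have e2 := h.tN.uniq_inv (h.od_oddΦ ho) (fun g hg x hx y hy hxy e1 e2 z hz => by
          rcases h.mem_V hg.1 hx hy hxy e1 e2 with rfl | rfl | rfl | rfl
          exacts [one_smul _ _, hz.1, hz.2, by rw [mul_smul, hz.2, hz.1]]) hc (hSN s hs) (hSN y hy)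
          (hSc s hs) (hSc y hy) (fun x _ => by rw [← mul_smul, hsq s hs, one_smul])
          (fun x _ => by rw [← mul_smul, hsq y hy, one_smul]) (mv s hs e) (mv y hy e1)
        have e3 := h.od_cent (hSN _ (mul_mem (inv_mem hs) hy)).1
          (by rw [mul_smul, ← e2 a h.od_aΦ, inv_smul_smul])
          (by rw [mul_smul, ← e2 b h.od_bΦ, inv_smul_smul])
        simp only [inv_mul_eq_iff_eq_mul, mul_one] at e3
        exact Or.inr e3
      exact (Set.ncard_le_ncard this).trans ((Set.ncard_union_le _ _).trans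
        (add_le_add (ncard_le_four _ _ _ _) (ncard_le_four _ _ _ _)))
    · push Not at e
      exact (Set.ncard_le_ncard e).trans ((ncard_le_four _ _ _ _).trans (by norm_num))
  have h16 : 2 ^ 4 ∣ Nat.card G := by
    refine Dvd.dvd.trans ?_ (card_subgroup_dvd_card (centralizer ({τ} : Set G)))
    have e1 := h.od_cardC
    obtain ⟨w, hw⟩ := h.od_oddΦ ho
    rw [h.od_sq_of_ne ho hne, hw] at e1
    have : ((2 ^ 4 : ℕ) : ℤ) ∣ Nat.card (centralizer ({τ} : Set G)) :=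
      ⟨(2 * w + 1) ^ 2 * (w * (w + 1)), by rw [e1]; push_cast; ring⟩
    exact_mod_cast this
  have : 2 ^ 4 ≤ Nat.card (S : Subgroup G) := by
    refine Nat.le_of_dvd Nat.card_pos ?_
    rw [S.card_eq_multiplicity]
    exact pow_dvd_pow 2 ((Nat.prime_two.pow_dvd_iff_le_factorization Nat.card_pos.ne').1 h16)
  omega

end AH

end CfsgLib.Kim
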