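import Mathlib
import Cfsg.Agent.Lib.Kim.AHO1
import Cfsg.Agent.Lib.Frob.Quaternion
import Cfsg.Agent.Lib.DihSyl.Fusion

/-! PERM3 / S3219, S3262: odd degree, type Y with `Fix τ ≠ Fix V`. -/

set_option autoImplicit false
set_option linter.unusedSectionVars false

namespace CfsgLib.Kim

open Subgroup MulAction CfsgLib.Perm CfsgLib.DihSyl

theorem od_sylow_pair {Y : Type*} [Group Y] [Finite Y] {y v : Y} (h4 : y * y * (y * y) = 1) (vv : v * v = 1)
    (hvy : v * y * v⁻¹ = y⁻¹) : ∃ S : Sylow 2 Y, y ∈ (S : Subgroup Y) ∧ v ∈ (S : Subgroup Y) := by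
  have h1 : IsPGroup 2 (zpowers y) := Invol.isPGroup_zpowers_of_pow_eq_one (k := 2) (by
    rw [← h4]; simp [pow_succ, mul_assoc])
  have h2 : IsPGroup 2 ↥(zpowers y ⊔ zpowers v) := by
    refine IsPGroup.to_sup_of_normal_left' h1 (Invol.isPGroup_zpowers_of_mul_self vv) ?_
    rw [zpowers_le]
    refine mem_normalizer_fintype (S := (zpowers y : Set Y)) ?_
    rintro _ ⟨k, rfl⟩
    exact ⟨-k, (Invol.conj_zpow_of_inverts hvy k).symm⟩
  obtain ⟨S, hS⟩ := h2.exists_le_sylow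
  exact ⟨S, hS (mem_sup_left (mem_zpowers y)), hS (mem_sup_right (mem_zpowers v))⟩

theorem od_dih_contra {Y : Type*} [Group Y] [Finite Y] {τ y v : Y} (hc : ∀ g, g * τ = τ * g)
    (h1 : τ ≠ 1) (ττ : τ * τ = 1) (yy : y * y = τ) (vv : v * v = 1) (hvy : v * y * v⁻¹ = y⁻¹)
    (hsq : ∀ s, s * s = τ → s = y ∨ s = y⁻¹)
    (hinv : ∀ s, s * s = 1 → s ≠ 1 → s ≠ τ → ∃ u, u * s * u⁻¹ = v ∨ u * s * u⁻¹ = τ * v) :
    False := by
  have hne : y ≠ y⁻¹ := fun e => h1 (by rw [← yy]; exact mul_eq_one_iff_eq_inv.2 e)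
  have hN : ∀ g, g * y * g⁻¹ = y ∨ g * y * g⁻¹ = y⁻¹ := fun g => hsq _ (by
    calc g * y * g⁻¹ * (g * y * g⁻¹) = g * (y * y) * g⁻¹ := by group
      _ = τ := by rw [yy, hc, mul_inv_cancel_right])
  have hwy : τ * v * y * (τ * v)⁻¹ = y⁻¹ := by
    calc τ * v * y * (τ * v)⁻¹ = τ * (v * y * v⁻¹) * τ⁻¹ := by group
      _ = _ := by rw [hvy, ← hc, mul_inv_cancel_right]
  have hI : ∀ s, s * s = 1 → s ≠ 1 → s ≠ τ → s * y ≠ y * s := fun s e1 e2 e3 e4 => by
    obtain ⟨u, hu⟩ := hinv s e1 e2 e3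
    have e5 : u * s * u⁻¹ * (u * y * u⁻¹) * (u * s * u⁻¹)⁻¹ = u * y * u⁻¹ := by
      calc _ = u * (s * y * s⁻¹) * u⁻¹ := by group
        _ = _ := by rw [e4, mul_inv_cancel_right]
    have e6 : u * s * u⁻¹ * y * (u * s * u⁻¹)⁻¹ = y⁻¹ := by
      rcases hu with e | e <;> rw [e]
      exacts [hvy, hwy]
    rcases hN u with e | e <;> rw [e] at e5
    · exact hne (e5.symm.trans e6)
    · exact hne (by rw [← conj_inv, e6, inv_inv] at e5; exact e5)
  obtain ⟨S, hyS, hvS⟩ := od_sylow_pair (by rw [yy, ττ]) vv hvy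
  have out : ∀ x ∈ (S : Subgroup Y), x * y ≠ y * x → x * x = 1 := fun x hx e => by
    by_contra e1
    obtain ⟨k, hk⟩ := Invol.exists_pow_eq_one_of_mem_sylow S hx
    obtain ⟨m, e2, e3⟩ := od_exists_sq (p := fun x : Y => x * x = 1) (mul_one _) hk e1
    have e4 : x ^ m * x ^ m = τ := by
      by_contra e4
      refine hI _ e3 e2 e4 (mul_inv_eq_iff_eq_mul.1 ?_)
      calc x ^ m * x ^ m * y * (x ^ m * x ^ m)⁻¹ = x ^ m * (x ^ m * y * (x ^ m)⁻¹) * (x ^ m)⁻¹ := by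
            group
        _ = y := by
          rcases hN (x ^ m) with e | e
          · rw [e, e]
          · rw [e, ← conj_inv, e, inv_inv]
    have e5 : Commute x (x ^ m) := Commute.self_pow x m
    rcases hsq _ e4 with e6 | e6 <;> rw [e6] at e5
    exacts [e e5, e (Commute.inv_right_iff.1 e5)]
  have hvn : v * y ≠ y * v := fun e => hne (by rw [← hvy, e, mul_inv_cancel_right])
  have inv : ∀ x ∈ (S : Subgroup Y) ⊓ centralizer {y}, v * x * v⁻¹ = x⁻¹ := fun x hx => by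
    have := out (x * v) (mul_mem hx.1 hvS) fun e => hvn (by
      rw [mul_assoc, ← mul_assoc y, ← commC hx.2, mul_assoc] at e
      exact mul_left_cancel e)
    rw [inv_eq_of_mul_eq_one_right vv, eq_inv_iff_mul_eq_one, ← conj_eq_one_iff (a := x), ← this]
    group
  have hcyc : IsCyclic ↥((S : Subgroup Y) ⊓ centralizer {y}) := by
    refine Frob.isCyclic_of_comm_of_forall_mem_zpowers ⟨⟨fun x z => Subtype.ext ?_⟩⟩
      fun p hp x z hx hz => ?_
    · have := inv _ (mul_mem x.2 z.2)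
      rw [show v * (x * z) * v⁻¹ = v * x * v⁻¹ * (v * z * v⁻¹) by group, inv _ x.2, inv _ z.2,
        ← mul_inv_rev, inv_inj] at this
      exact this.symm
    · obtain ⟨k, hk⟩ := Invol.exists_pow_eq_one_of_mem_sylow S x.2.1
      have e1 := orderOf_dvd_of_pow_eq_one hk
      rw [orderOf_coe, hx] at e1
      obtain rfl : p = 2 := (Nat.prime_dvd_prime_iff_eq hp Nat.prime_two).1 (hp.dvd_of_dvd_pow e1)
      have e2 : ∀ x : ↥((S : Subgroup Y) ⊓ centralizer {y}), orderOf x = 2 → (x : Y) = τ :=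
        fun x hx => by
          by_contra e
          rw [← orderOf_coe, orderOf_eq_two_iff'] at hx
          exact hI _ hx.1 hx.2 e (commC x.2.2)
      rw [show z = x from Subtype.ext ((e2 z hz).trans (e2 x hx).symm)]
      exact mem_zpowers x
  obtain ⟨r, hr⟩ := (Subgroup.isCyclic_iff_exists_zpowers_eq_top _).1 hcyc
  have hrS : r ∈ (S : Subgroup Y) ⊓ centralizer {y} := hr ▸ mem_zpowers r
  have hD : IsDih (S : Subgroup Y) (orderOf r) r v :=
    { ord := rfl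
      ss := vv
      conj := inv r hrS
      notMem := fun e => hvn (commC (hr ▸ e : v ∈ (S : Subgroup Y) ⊓ centralizer {y}).2)
      mem := fun g => ⟨fun hg => by
        rcases hN g with e | e
        · obtain ⟨i, hi⟩ : g ∈ zpowers r := hr ▸ ⟨hg, memC (mul_inv_eq_iff_eq_mul.1 e)⟩
          exact ⟨i, Or.inl hi.symm⟩
        · obtain ⟨i, hi⟩ : g * v ∈ zpowers r := hr ▸ ⟨mul_mem hg hvS, memC
            (mul_inv_eq_iff_eq_mul.1 (by
              calc g * v * y * (g * v)⁻¹ = g * (v * y * v⁻¹) * g⁻¹ := by group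
                _ = y := by rw [hvy, ← conj_inv, e, inv_inv]))⟩
          exact ⟨i, Or.inr (by rw [show r ^ i = g * v from hi, mul_assoc, vv, mul_one])⟩, by
        rintro ⟨i, rfl | rfl⟩
        exacts [(S : Subgroup Y).zpow_mem hrS.1 i, mul_mem ((S : Subgroup Y).zpow_mem hrS.1 i) hvS]⟩ }
  have hyr : y ∈ zpowers r := hr ▸ ⟨hyS, memC rfl⟩
  have hτr : τ ∈ zpowers r := yy ▸ mul_mem hyr hyr
  obtain ⟨u, hu⟩ := hinv _ (hD.rpows_sq 1) (hD.rpows_ne_one 1) (fun e => hD.rpows_notMem 1 (e ▸ hτr))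
  obtain ⟨w, hw, e⟩ := hD.control_of_commute hτr ττ h1 (hc u) (hD.rpows_mem 1) (by
    rcases hu with e | e <;> rw [e]
    exacts [hvS, mul_mem (hD.zpowers_le hτr) hvS])
  obtain ⟨j, hj⟩ := hD.conj_rpows hw 1
  rw [e, hj] at hu
  have e1 : r ^ (1 + 2 * j) * r ^ (1 + 2 * j) = 1 := by
    rcases hu with e | e
    · rw [mul_eq_right.1 e, mul_one]
    · rw [mul_right_cancel e, ττ]
  rw [← zpow_add, hD.eq_one_iff] at e1
  have e2 : orderOf y = 4 := orderOf_eq_prime_pow (p := 2) (n := 1)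
    (by rw [pow_one, sq, yy]; exact h1) (by
      rw [show 2 ^ (1 + 1) = 2 + 2 from rfl, pow_add, sq, yy, ττ])
  have e3 := orderOf_dvd_of_mem_zpowers hyr
  rw [e2] at e3
  have := (Int.natCast_dvd_natCast.2 e3).trans e1
  omega

variable {G : Type*} {Ω : Type*} [Group G] [MulAction G Ω] [Finite G] [Finite Ω]
  {a b : Ω} {τ v : G} {γ : ℕ}

namespace AH

variable (h : AH a b τ v γ)
include h

theorem od_yy {I : G} (hI : I * I = 1) (hv : I * v * I⁻¹ = τ * v) : I * v * (I * v) = τ := by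
  rw [inv_eq_of_mul_eq_one_right hI] at hv
  rw [← mul_assoc, hv, mul_assoc, h.od_vv, mul_one]

theorem od_vy {I : G} (hI : I * I = 1) : v * (I * v) * v⁻¹ = (I * v)⁻¹ := by
  rw [mul_inv_rev, inv_eq_of_mul_eq_one_right hI, mul_assoc, mul_inv_cancel_right,
    inv_eq_of_mul_eq_one_right h.od_vv]

theorem od_yinv {I : G} (hI : I * I = 1) (hv : I * v * I⁻¹ = τ * v) : (I * v)⁻¹ = I * (τ * v) := by
  rw [← hv, ← mul_assoc, ← mul_assoc, hI, one_mul, mul_inv_rev, inv_eq_of_mul_eq_one_right h.od_vv]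

theorem od_case3 (ho : Odd (Nat.card Ω))
    (hne : (fixedBy Ω τ).ncard ≠ (fixedBy Ω τ ∩ fixedBy Ω v).ncard) (hY : TypY a b τ v γ) :
    False := by
  obtain ⟨I, hI, ha, hb, hIτ, hIv⟩ := hY.ex
  have yy := h.od_yy hI hIv
  have hyi := h.od_yinv hI hIv
  have hvy := h.od_vy hI
  have hF := h.od_oddF ho
  have II : I * τ * (I * τ) = 1 := by rw [mul_assoc, ← mul_assoc τ, ← hIτ, mul_assoc, h.ττ, mul_one, hI]
  have yy' : (I * v)⁻¹ * (I * v)⁻¹ = τ := by
    rw [← mul_inv_rev, yy, inv_eq_of_mul_eq_one_right h.ττ]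
  have hDC : ∀ s : G, s * s = τ → s * τ = τ * s := fun s hs => by rw [← hs, mul_assoc]
  have hD2 : ∀ s : G, s * s = τ → ∀ x ∈ fixedBy Ω τ, s • s • x = x := fun s hs x hx => by
    rw [← mul_smul, hs]; exact hx
  have hD1 : ∀ s : G, s * s = τ → (fixedBy Ω s ∩ fixedBy Ω τ).ncard = 1 := fun s hs => by
    obtain ⟨x, hx, hsx⟩ := exists_fix_of_odd (h.tC.inv s (memC (hDC s hs))) (hD2 s hs) hF
    rw [Set.ncard_eq_one]
    refine ⟨x, Set.eq_singleton_iff_unique_mem.2 ⟨⟨hsx, hx⟩, fun z hz => ?_⟩⟩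
    by_contra e
    exact h.od_τ1 (hs.symm.trans (h.od_sq_of_fix (hDC s hs) hz.2 hx e hz.1 hsx))
  obtain ⟨c, hc⟩ := Set.ncard_eq_one.1 (hD1 _ yy)
  have hc' : c ∈ fixedBy Ω (I * v) ∩ fixedBy Ω τ := hc ▸ rfl
  have e1 := h.tC.cnt_f1_of_one (D := {s | s * s = τ}) (fun g hg s hs => by
    calc g * s * g⁻¹ * (g * s * g⁻¹) = g * (s * s) * g⁻¹ := by group
      _ = τ := by rw [hs, commC hg, mul_inv_cancel_right]) (fun s hs => memC (hDC s hs)) hD2 hD1
    h.od_aF h.od_bF h.hab hc'.2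
  have e2 : sw {s | s * s = τ} a b ⊆ {I * v, (I * v)⁻¹} := fun s hs => by
    obtain ⟨x, hx, rfl⟩ := h.od_sw hIτ ha hb (hDC s hs.1) hs.2.1 hs.2.2
    have e3 : I * x * (I * x) = τ := hs.1
    rcases hx with rfl | rfl | rfl | rfl
    · exact absurd (by rw [← e3, mul_one, hI]) h.od_τ1
    · exact absurd (e3.symm.trans II) h.od_τ1
    · exact Or.inl rfl
    · exact Or.inr hyi.symm
  have hne' : I * v ≠ (I * v)⁻¹ := fun e => h.od_τ1 (by rw [← yy]; exact mul_eq_one_iff_eq_inv.2 e)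
  have hyc : (I * v)⁻¹ • c = c := inv_smul_eq_iff.2 hc'.1.symm
  have e3 : {I * v, (I * v)⁻¹} = f1 {s | s * s = τ} c := by
    refine Set.eq_of_subset_of_ncard_le ?_ (e1.le.trans (Set.ncard_le_ncard e2))
    rintro _ (rfl | rfl)
    exacts [⟨yy, hc'.1⟩, ⟨yy', hyc⟩]
  have hvc : v • c = c := by
    refine show v • c ∈ ({c} : Set Ω) from hc ▸ ⟨?_, h.tC.inv v h.od_vC c hc'.2⟩
    have : (I * v)⁻¹ • v • c = v • c := by rw [← hvy, conj_smul, hc'.1]
    exact (inv_smul_eq_iff.1 this).symm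
  have key : ∀ s : G, s * s = 1 → s * τ = τ * s → (∃ x ∈ fixedBy Ω τ, s • x ≠ x) →
      (fixedBy Ω s ∩ fixedBy Ω τ).ncard = (fixedBy Ω I ∩ fixedBy Ω τ).ncard := by
    rintro s e1 e2 ⟨x, hx, e3⟩
    obtain ⟨g, hg, e4, e5⟩ := od_conj_sw h.tC h.od_aF h.od_bF h.hab (memC e2) hx e3
      (by rw [← mul_smul, e1, one_smul])
    rw [← od_ncard_conj h.tC hg]
    have e6 := conj_mul_self e1 g
    obtain ⟨x, hx, e7⟩ := h.od_sw hIτ ha hb (od_conj_comm (commC hg) e2) e4 e5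
    rw [e7] at e6 ⊢
    rcases hx with rfl | rfl | rfl | rfl
    · rw [mul_one]
    · congr 1; ext z
      refine and_congr_left fun hz => ?_
      rw [mem_fixedBy, mul_smul, hz, mem_fixedBy]
    · exact absurd (yy.symm.trans e6) h.od_τ1
    · exact absurd (by rw [← yy', hyi, e6]) h.od_τ1
  have hIj := key v h.od_vv h.comm.symm (h.od_moved hne)
  rw [Set.inter_comm] at hIj
  have h3 := h.od_three ho
  obtain ⟨d', hd', hdc'⟩ := Set.exists_ne_of_one_lt_ncard (lt_trans one_lt_two h3) c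
  let Y : Subgroup G := centralizer {τ} ⊓ stabilizer G c
  refine od_dih_contra (Y := Y) (τ := ⟨τ, memC rfl, hc'.2⟩) (y := ⟨I * v, memC (hDC _ yy), hc'.1⟩)
    (v := ⟨v, h.od_vC, hvc⟩) (fun g => Subtype.ext (commC g.2.1))
    (fun e => h.od_τ1 (congrArg Subtype.val e)) (Subtype.ext h.ττ) (Subtype.ext yy)
    (Subtype.ext h.od_vv) (Subtype.ext hvy) (fun s hs => ?_) (fun s s2 s1 sτ => ?_)
  · have : (s : G) ∈ ({I * v, (I * v)⁻¹} : Set G) := e3 ▸ ⟨congrArg Subtype.val hs, s.2.2⟩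
    exact this.imp Subtype.ext Subtype.ext
  · obtain ⟨s, hs, hsc⟩ := s
    have s2' : s * s = 1 := congrArg Subtype.val s2
    have : 2 < (fixedBy Ω s ∩ fixedBy Ω τ).ncard := by
      by_cases e : ∃ x ∈ fixedBy Ω τ, s • x ≠ x
      · rwa [key s s2' (commC hs) e, ← hIj]
      · push Not at e
        exact h3.trans_le (Set.ncard_le_ncard fun x hx => ⟨e x hx.1, hx.1⟩)
    obtain ⟨d, hd, hdc⟩ := Set.exists_ne_of_one_lt_ncard (lt_trans one_lt_two this) c
    obtain ⟨u, hu, e4, e5⟩ := h.tC.two hc'.2 hd.2 hc'.2 hd'.1 hdc.symm hdc'.symm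
    refine ⟨⟨u, hu, e4⟩, ?_⟩
    rcases h.mem_V (od_conj_comm (commC hu) (commC hs)) ⟨hc'.2, hvc⟩ hd' hdc'.symm
      (by
        conv_lhs => rw [← e4]
        rw [conj_smul, show s • c = c from hsc, e4])
      (by rw [← e5, conj_smul, hd.1]) with e | e | e | e
    · exact absurd (Subtype.ext (conj_eq_one_iff.1 e)) s1
    · refine absurd (Subtype.ext ?_) sτ
      calc s = u⁻¹ * (u * s * u⁻¹) * u := by group
        _ = τ := by rw [e, mul_assoc, ← commC hu]; group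
    · exact Or.inl (Subtype.ext e)
    · exact Or.inr (Subtype.ext e)

end AH

end CfsgLib.Kim
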