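import Mathlib
import Cfsg.Agent.Lib.Kim.AHO3

/-! PERM3 / S3219, S3262: odd degree, the case `Fix τ = Fix V`. -/

set_option autoImplicit false
set_option linter.unusedSectionVars false

namespace CfsgLib.Kim

open Subgroup MulAction CfsgLib.Perm CfsgLib.DihSyl

variable {G : Type*} {Ω : Type*} [Group G] [MulAction G Ω] [Finite G] [Finite Ω]
  {a b : Ω} {τ v : G} {γ : ℕ}

theorem od_index {H : Type*} [Group H] [Finite H] (f : H →* G) (hf : Function.Injective f) {u : H}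
    (hc : ∀ s, IsConj (f u) s → ∃ x, IsConj u x ∧ f x = s) :
    (centralizer ({u} : Set H)).index = (cl (f u)).ncard := by
  rw [index_cent]
  exact Set.ncard_congr (fun x _ => f x) (fun x hx => f.map_isConj hx) (fun x y _ _ e => hf e)
    (fun s hs => by obtain ⟨x, e1, e2⟩ := hc s hs; exact ⟨x, e1, e2⟩)

theorem od_le_two_mul {u w : G} (uu : u * u = 1)
    (hN : ∀ g, g * u = u * g → g * w * g⁻¹ = w ∨ g * w * g⁻¹ = u * w) :
    Nat.card (centralizer ({u} : Set G)) ≤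
      2 * Nat.card ↥(centralizer ({u} : Set G) ⊓ centralizer {w}) := by
  rw [← ncard_coe, ← ncard_coe]
  by_cases e : ∃ I, I * u = u * I ∧ I * w * I⁻¹ = u * w
  · obtain ⟨I, e1, e2⟩ := e
    have : (centralizer ({u} : Set G) : Set G) ⊆ (centralizer ({u} : Set G) ⊓ centralizer {w} :
        Subgroup G) ∪ (fun x => I⁻¹ * x) '' (centralizer ({u} : Set G) ⊓ centralizer {w} :
        Subgroup G) := fun g hg => by
      rcases hN g (commC hg) with e | e
      · exact Or.inl ⟨hg, memC (mul_inv_eq_iff_eq_mul.1 e)⟩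
      · refine Or.inr ⟨I * g, ⟨mul_mem (memC e1) hg, memC (mul_inv_eq_iff_eq_mul.1 ?_)⟩, by simp⟩
        calc I * g * w * (I * g)⁻¹ = I * (g * w * g⁻¹) * I⁻¹ := by group
          _ = u * (I * w * I⁻¹) := by rw [e, ← mul_assoc, e1]; group
          _ = w := by rw [e2, ← mul_assoc, uu, one_mul]
    refine (Set.ncard_le_ncard this).trans ((Set.ncard_union_le _ _).trans ?_)
    rw [Set.ncard_image_of_injective _ (mul_right_injective _), two_mul]
  · push Not at e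
    refine le_trans (Set.ncard_le_ncard fun g hg => ?_) (Nat.le_mul_of_pos_left _ two_pos)
    exact ⟨hg, memC (mul_inv_eq_iff_eq_mul.1 ((hN g (commC hg)).resolve_right (e g (commC hg))))⟩

namespace AH

variable (h : AH a b τ v γ) (ho : Odd (Nat.card Ω)) (hF : ∀ x ∈ fixedBy Ω τ, v • x = x)
include h hF

theorem od_triv {g : G} (hg : g = 1 ∨ g = τ ∨ g = v ∨ g = τ * v) :
    ∀ x ∈ fixedBy Ω τ, g • x = x := fun x hx => by
  rcases hg with rfl | rfl | rfl | rfl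
  exacts [one_smul _ _, hx, hF x hx, by rw [mul_smul, hF x hx]; exact hx]

theorem od_fix_eq {g : G} (hg : g = 1 ∨ g = τ ∨ g = v ∨ g = τ * v) (h1 : g ≠ 1) :
    fixedBy Ω g = fixedBy Ω τ := by
  refine (Set.eq_of_subset_of_ncard_le (h.od_triv hF hg) (ncard_fixedBy_of_isConj ?_).le).symm
  rcases hg with rfl | rfl | rfl | rfl
  exacts [absurd rfl h1, IsConj.refl _, h.od_cv, h.od_cw]

theorem od_norm {g : G} (hg : g * τ = τ * g) : g * v * g⁻¹ = v ∨ g * v * g⁻¹ = τ * v := by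
  have e : ∀ x ∈ fixedBy Ω τ, (g * v * g⁻¹) • x = x := fun x hx => by
    rw [mul_smul, mul_smul, hF _ (h.tC.inv _ (inv_mem (memC hg)) x hx), smul_inv_smul]
  rcases h.od_cent (od_conj_comm hg h.comm.symm) (e a h.od_aF) (e b h.od_bF) with e | e | e | e
  · exact absurd (conj_eq_one_iff.1 e) h.od_v1
  · refine absurd ?_ h.ne
    calc τ = g⁻¹ * (g * v * g⁻¹) * g := by rw [e, mul_assoc, ← hg]; group
      _ = v := by group
  · exact Or.inl e
  · exact Or.inr e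

include ho

theorem od_uq {c : Ω} (hc : τ • c = c) {s s' : G} (e1 : s * τ = τ * s) (e1' : s' * τ = τ * s')
    (e2 : s • c = c) (e2' : s' • c = c)
    (e3 : s * s = 1 ∨ s * s = τ ∨ s * s = v ∨ s * s = τ * v)
    (e3' : s' * s' = 1 ∨ s' * s' = τ ∨ s' * s' = v ∨ s' * s' = τ * v)
    (e4 : ¬ (s = 1 ∨ s = τ ∨ s = v ∨ s = τ * v)) (e4' : ¬ (s' = 1 ∨ s' = τ ∨ s' = v ∨ s' = τ * v)) :
    s⁻¹ * s' = 1 ∨ s⁻¹ * s' = τ ∨ s⁻¹ * s' = v ∨ s⁻¹ * s' = τ * v := by
  have mv : ∀ y : G, y * τ = τ * y → ¬ (y = 1 ∨ y = τ ∨ y = v ∨ y = τ * v) →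
      ∃ x ∈ fixedBy Ω τ, y • x ≠ x := fun y hy e => by
    by_contra e1
    push Not at e1
    exact e (h.od_cent hy (e1 a h.od_aF) (e1 b h.od_bF))
  have := h.tC.uniq_inv (h.od_oddF ho) (fun g hg x hx y hy hxy e1 e2 =>
    h.od_triv hF (h.mem_V (commC hg) ⟨hx, hF x hx⟩ ⟨hy, hF y hy⟩ hxy e1 e2)) hc (memC e1) (memC e1')
    e2 e2' (fun x hx => by rw [← mul_smul, h.od_triv hF e3 x hx])
    (fun x hx => by rw [← mul_smul, h.od_triv hF e3' x hx]) (mv s e1 e4) (mv s' e1' e4')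
  exact h.od_cent (commC (mul_mem (inv_mem (memC e1)) (memC e1')))
    (by rw [mul_smul, ← this a h.od_aF, inv_smul_smul])
    (by rw [mul_smul, ← this b h.od_bF, inv_smul_smul])

theorem od_noC {I : G} (hn : IsConj τ I) (ha : I • a = b) (hτ : I * τ = τ * I)
    (hv : I * v = v * I) : False := by
  obtain ⟨c, hc, hIc⟩ := exists_fix_of_odd (h.tC.inv I (memC hτ))
    (fun x _ => by rw [← mul_smul, mul_self_of_isConj h.ττ hn, one_smul]) (h.od_oddF ho)
  obtain ⟨g, rfl⟩ := isConj_iff.1 hn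
  have cm : ∀ x : G, g * τ * g⁻¹ * x = x * (g * τ * g⁻¹) → g⁻¹ * x * g⁻¹⁻¹ * τ =
      τ * (g⁻¹ * x * g⁻¹⁻¹) := fun x e => by
    calc _ = g⁻¹ * (x * (g * τ * g⁻¹)) * g := by group
      _ = _ := by rw [← e]; group
  have nv : ∀ x : G, x ≠ 1 → x • a = a → ¬ (g⁻¹ * x * g⁻¹⁻¹ = 1 ∨ g⁻¹ * x * g⁻¹⁻¹ = τ ∨
      g⁻¹ * x * g⁻¹⁻¹ = v ∨ g⁻¹ * x * g⁻¹⁻¹ = τ * v) := fun x e1 e2 e3 => by
    have : τ • g⁻¹ • a = g⁻¹ • a := show g⁻¹ • a ∈ fixedBy Ω τ from
      h.od_fix_eq hF e3 (fun e => e1 (conj_eq_one_iff.1 e)) ▸ (conj_smul_iff g⁻¹ x a a).2 e2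
    exact h.hab (by rw [← ha, mul_smul, mul_smul, this, smul_inv_smul])
  refine nv (τ * v) h.od_w1 (mul_mem h.τK h.vK).1 ?_
  have := h.od_uq ho hF (c := g⁻¹ • c) (by rw [eq_inv_smul_iff, ← mul_smul, ← mul_smul]; exact hIc)
    (cm τ hτ) (cm v hv) ((conj_smul_iff g⁻¹ τ c c).2 hc) ((conj_smul_iff g⁻¹ v c c).2 (hF c hc))
    (Or.inl (conj_mul_self h.ττ _)) (Or.inl (conj_mul_self h.od_vv _)) (nv τ h.od_τ1 h.τK.1)
    (nv v h.od_v1 h.vK.1)
  rwa [inv_eq_of_mul_eq_one_right (conj_mul_self h.ττ _), conj_mul] at this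

theorem od_noReg : NoReg G Ω := fun N hN => by
  have := hN.normal
  have e := PD.wielandt_four (Y := N) (by rwa [hN.card a]) h.oτ h.ov h.ne h.comm
    (normalizer_eq_top N ▸ mem_top τ) (normalizer_eq_top N ▸ mem_top v)
  rw [hN.card a, hN.card_cent2 h.τK.1 h.vK.1, hN.card_cent h.τK.1, hN.card_cent h.vK.1,
    hN.card_cent (mul_mem h.τK h.vK).1, ncard_fixedBy_of_isConj h.od_cv,
    ncard_fixedBy_of_isConj h.od_cw,
    Set.inter_eq_left.2 (show fixedBy Ω τ ⊆ fixedBy Ω v from hF)] at e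
  have e1 := h.lt_card
  have e2 := (h.od_oddF ho).pos
  nlinarith [Nat.mul_lt_mul_of_pos_right e1 (pow_pos e2 2)]

theorem od_dih {I : G} (hI : I * I = 1) (ha : I • a = b) (hτ : I * τ = τ * I)
    (hv : I * v * I⁻¹ = τ * v) (hD : Odd (cl τ).ncard) :
    ∃ S : Sylow 2 G, IsDih (S : Subgroup G) 4 (I * v) v := by
  have yy := h.od_yy hI hv
  have hvy := h.od_vy hI
  obtain ⟨T, e1, e2⟩ := od_sylow_pair (Y := centralizer ({τ} : Set G))
    (y := ⟨I * v, mul_mem (memC hτ) h.od_vC⟩) (v := ⟨v, h.od_vC⟩)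
    (Subtype.ext (show I * v * (I * v) * (I * v * (I * v)) = 1 by rw [yy, h.ττ]))
    (Subtype.ext h.od_vv) (Subtype.ext hvy)
  have hp : IsPGroup 2 ((T : Subgroup (centralizer ({τ} : Set G))).map (centralizer {τ}).subtype) :=
    T.isPGroup'.map _
  refine ⟨hp.toSylow (by
    rw [index_map_subtype, Nat.prime_two.dvd_mul, index_cent]
    exact not_or.2 ⟨T.not_dvd_index, Nat.two_dvd_ne_zero.2 (Nat.odd_iff.1 hD)⟩), ?_⟩
  rw [IsPGroup.toSylow_coe]
  have hy : I * v ∈ (T : Subgroup (centralizer ({τ} : Set G))).map (centralizer {τ}).subtype :=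
    ⟨_, e1, rfl⟩
  have hvS : v ∈ (T : Subgroup (centralizer ({τ} : Set G))).map (centralizer {τ}).subtype :=
    ⟨_, e2, rfl⟩
  have hSC : ∀ g ∈ (T : Subgroup (centralizer ({τ} : Set G))).map (centralizer {τ}).subtype,
      g * τ = τ * g := by
    rintro _ ⟨g, -, rfl⟩
    exact commC g.2
  generalize (T : Subgroup (centralizer ({τ} : Set G))).map (centralizer {τ}).subtype = S at *
  have hIS : I ∈ S := by simpa using S.mul_mem hy (S.inv_mem hvS)
  obtain ⟨c, hc, hSc⟩ := exists_fix_of_isPGroup hp (fun g hg => h.tC.inv g (memC (hSC g hg)))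
    (h.od_oddF ho)
  have hIv : I * v ≠ v * I := fun e => h.od_wv (by rw [← hv, e, mul_inv_cancel_right])
  have hcv : ∀ g ∈ S, g * v = v * g → g = 1 ∨ g = τ ∨ g = v ∨ g = τ * v := fun g hg e => by
    by_contra e1
    obtain ⟨k, hk⟩ := hp ⟨g, hg⟩
    obtain ⟨m, e2, e3⟩ := od_exists_sq (p := fun x : G => x = 1 ∨ x = τ ∨ x = v ∨ x = τ * v)
      (Or.inl rfl) (congrArg Subtype.val hk) e1
    have e4 := h.od_commV (h.od_uq ho hF hc (hSC _ (pow_mem hg m)) hτ (hSc _ (pow_mem hg m))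
      (hSc I hIS) e3 (Or.inl hI) e2 fun e => hIv (h.od_commV e))
    have := mul_mem (pow_mem (memC e) m) (memC e4)
    rw [mul_inv_cancel_left] at this
    exact hIv (commC this)
  have p2 : (I * v) ^ (2 : ℤ) = τ := by rw [zpow_two, yy]
  have p3 : (I * v) ^ (3 : ℤ) = I * v * τ := by rw [← p2, ← zpow_one_add]; rfl
  refine ⟨orderOf_eq_prime_pow (p := 2) (n := 1) (by rw [pow_one, sq, yy]; exact h.od_τ1) (by
      rw [show 2 ^ (1 + 1) = 2 + 2 from rfl, pow_add, sq, yy, h.ττ]), h.od_vv, hvy, ?_,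
    fun g => ⟨fun hg => ?_, ?_⟩⟩
  · rintro ⟨k, hk⟩
    have : Commute (I * v) v := by
      have := Commute.self_zpow (I * v) k
      rwa [show (I * v) ^ k = v from hk] at this
    exact hIv (mul_right_cancel (this.eq.trans (mul_assoc _ _ _).symm))
  · rcases h.od_norm hF (hSC g hg) with e | e
    · rcases hcv g hg (mul_inv_eq_iff_eq_mul.1 e) with rfl | rfl | rfl | rfl
      exacts [⟨0, Or.inl (by simp)⟩, ⟨2, Or.inl p2.symm⟩, ⟨0, Or.inr (by simp)⟩,
        ⟨2, Or.inr (by rw [p2])⟩]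
    · have e1 := hcv (I * g) (mul_mem hIS hg) (mul_inv_eq_iff_eq_mul.1 (by
        calc I * g * v * (I * g)⁻¹ = I * (g * v * g⁻¹) * I⁻¹ := by group
          _ = τ * (I * v * I⁻¹) := by rw [e, ← mul_assoc, hτ]; group
          _ = v := by rw [hv, ← mul_assoc, h.ττ, one_mul]))
      have e2 : g = I * (I * g) := by rw [← mul_assoc, hI, one_mul]
      rcases e1 with e1 | e1 | e1 | e1 <;> rw [e1] at e2
      · exact ⟨1, Or.inr (by rw [e2, zpow_one, mul_assoc, h.od_vv])⟩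
      · exact ⟨3, Or.inr (by
          rw [e2, p3, mul_assoc, h.comm, mul_assoc, ← mul_assoc v, h.od_vv, one_mul])⟩
      · exact ⟨1, Or.inl (by rw [e2, zpow_one])⟩
      · exact ⟨3, Or.inl (by rw [e2, p3, h.comm, mul_assoc])⟩
  · rintro ⟨i, rfl | rfl⟩
    exacts [zpow_mem hy i, mul_mem (zpow_mem hy i) hvS]

omit ho hF in
theorem od_cntY (hY : TypY a b τ v γ) {i n D : ℤ} (hi : i = (fixedBy Ω τ).ncard)
    (hn : n = Nat.card Ω) (hD : D = (cl τ).ncard) :
    (γ = 3 ∧ n = 2 * i ^ 2 - i ∧ D = 3 * ((2 * i - 1) * (2 * i + 1))) ∨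
    (γ = 15 ∧ 3 * n = 2 * i ^ 2 + i ∧ 3 * D = 5 * ((2 * i + 1) * (2 * i + 3))) := by
  obtain ⟨c1, c2, -⟩ := h.cnt
  have e : sw (cl τ) a b = sw {s : G | s * s = 1} a b := Set.ext fun s =>
    ⟨fun hs => ⟨mul_self_of_isConj h.ττ hs.1, hs.2⟩, fun hs => ⟨h.od_oneY hY hs.1
      fun e => h.hab (by rw [← hs.2.1, e, one_smul]), hs.2⟩⟩
  rw [e, hY.card] at c1
  have e1 : 1 < (fixedBy Ω τ).ncard :=
    (Set.one_lt_ncard (Set.toFinite _)).2 ⟨a, h.od_aF, b, h.od_bF, h.hab⟩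
  rw [← hi, ← hn] at c1
  rw [← hi, ← hn, ← hD] at c2
  have e2 : i * (i - 1) ≠ 0 := mul_ne_zero (by omega) (by omega)
  rcases h.gam with rfl | rfl
  · have e3 : n = 2 * i ^ 2 - i := by
      norm_num at c1; linarith
    refine Or.inl ⟨rfl, e3, mul_right_cancel₀ e2 ?_⟩
    rw [c2, e3]; push_cast; ring
  · have e3 : 3 * n = 2 * i ^ 2 + i := by
      norm_num at c1; linarith
    refine Or.inr ⟨rfl, e3, mul_right_cancel₀ e2 ?_⟩
    push_cast at c2
    linear_combination 3 * c2 + (5 * (3 * n + 2 * i ^ 2 + i) - 15) * e3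

theorem od_case1 (hY : TypY a b τ v γ) :
    ((γ = 3 ∧ Nat.card Ω = 15) ∨ (γ = 15 ∧ Nat.card Ω = 7)) ∧
      Nonempty (G ≃* alternatingGroup (Fin 7)) := by
  have := h.faith
  obtain ⟨I, hI, ha, hb, hIτ, hIv⟩ := hY.ex
  have hn := h.od_noReg ho hF
  have hc := h.od_cntY hY rfl rfl rfl
  have h3 := (h.od_three ho).trans_le (Set.ncard_le_ncard Set.inter_subset_left)
  have hD : Odd (cl τ).ncard := by
    rw [← Int.odd_coe_nat]
    rcases hc with ⟨-, -, e⟩ | ⟨-, -, e⟩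
    · rw [e]
      exact Odd.mul (by decide) (Odd.mul ⟨_ - 1, by ring⟩ ⟨_, rfl⟩)
    · refine (Int.odd_mul.1 (show Odd ((3 : ℤ) * _) from ?_)).2
      rw [e]
      exact Odd.mul (by decide) (Odd.mul ⟨_, rfl⟩ ⟨_ + 1, by ring⟩)
  obtain ⟨S, hS⟩ := h.od_dih ho hF hI ha hIτ hIv hD
  obtain ⟨L, hL, hL1, -, hs, hnc⟩ := exists_simple h.two hn (M := ⊤) inferInstance
    (fun e => h.od_τ1 (mem_bot.1 (e ▸ mem_top τ)))
  have hall : ∀ s, IsConj τ s → s ∈ L := by
    obtain ⟨t, ht, e⟩ := Invol.exists_involution_mem_of_even_card (H := L)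
      (Nat.not_odd_iff_even.1 fun e => hL1 (eq_bot_of_odd h.two hn hL e))
    intro s hs
    obtain ⟨g, rfl⟩ := isConj_iff.1 ((h.od_oneY hY (orderOf_eq_two_iff'.1 e).1
      (orderOf_eq_two_iff'.1 e).2).symm.trans hs)
    exact hL.conj_mem t ht g
  have hvL := hall v h.od_cv
  have hτL := hall τ (IsConj.refl τ)
  have hyL : I * v ∈ L := mul_mem (hall I (h.od_oneY hY hI
    fun e => h.hab (by rw [← ha, e, one_smul]))) hvL
  have hSL : (S : Subgroup G) ≤ L := fun g hg => by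
    obtain ⟨i, rfl | rfl⟩ := (hS.mem g).1 hg
    exacts [zpow_mem hyL i, mul_mem (zpow_mem hyL i) hvL]
  have hS' : IsDih ((S.subtype hSL : Sylow 2 L) : Subgroup L) 4 ⟨I * v, hyL⟩ ⟨v, hvL⟩ :=
    GW.isDih_subgroupOf hSL hS
  have one : ∀ s, IsConj τ s → ∃ x : L, IsConj ⟨τ, hτL⟩ x ∧ x = s := fun s hs =>
    ⟨⟨s, hall s hs⟩, hS'.isConj_of_no_index_two (fun M e => by
      rcases (normal_of_index_eq_two e).eq_bot_or_eq_top with rfl | rfl
      · have := isCyclic_of_prime_card (index_bot.symm.trans e)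
        exact hnc inferInstance
      · simp at e) (by rw [orderOf_mk]; exact h.oτ)
      (by rw [orderOf_mk, ← Invol.orderOf_eq_of_isConj hs]; exact h.oτ), rfl⟩
  rcases GW.gorenstein_walter GW.Cor.ft L hnc ⟨_, 4, _, _, by norm_num, hS'⟩ with
    ⟨F, _, _, h1, -, ⟨e⟩⟩ | ⟨⟨e⟩⟩
  · exfalso
    obtain ⟨ε, hε, e1, e2, e3⟩ := psl2_inv h1 (u := e ⟨τ, hτL⟩) (v := e ⟨v, hvL⟩)
      (by rw [e.orderOf_eq, orderOf_mk]; exact h.oτ) (by rw [e.orderOf_eq, orderOf_mk]; exact h.ov)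
      (fun e1 => h.ne (congrArg Subtype.val (e.injective e1)))
      (by rw [← map_mul, ← map_mul]; exact congrArg e (Subtype.ext h.comm))
    have e4 := od_le_two_mul (u := e ⟨τ, hτL⟩) (w := e ⟨v, hvL⟩)
      (by rw [← map_mul, ← map_one e]; exact congrArg e (Subtype.ext h.ττ)) (fun g hg => by
        obtain ⟨g, rfl⟩ := e.surjective g
        rw [← map_mul, ← map_mul] at hg
        rw [← map_inv, ← map_mul, ← map_mul, ← map_mul]
        exact (h.od_norm hF (congrArg Subtype.val (e.injective hg))).imp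
          (fun e1 => congrArg e (Subtype.ext e1)) (fun e1 => congrArg e (Subtype.ext e1)))
    have e5 := od_index (L.subtype.comp e.symm.toMonoidHom)
      (L.subtype_injective.comp e.symm.injective) (u := e ⟨τ, hτL⟩) (fun s hs => by
        obtain ⟨x, e1, e2⟩ := one s (by simpa using hs)
        exact ⟨e x, e.toMonoidHom.map_isConj e1, by simpa using e2⟩)
    rw [show (L.subtype.comp e.symm.toMonoidHom) (e ⟨τ, hτL⟩) = τ by simp] at e5
    rw [e5] at e3
    rw [e2] at e4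
    generalize Fintype.card F = q at *
    generalize (fixedBy Ω τ).ncard = i at *
    have hq : (q : ℤ) * (q + ε) ≤ 90 := by
      rcases hε with rfl | rfl
      · have : q ≤ 9 := by omega
        nlinarith
      · have : q ≤ 7 := by omega
        nlinarith
    rcases hc with ⟨-, -, e⟩ | ⟨-, -, e⟩ <;> nlinarith
  · have e1 : Nat.card L = 2520 := by
      have h1 := two_mul_nat_card_alternatingGroup (α := Fin 7)
      rw [Nat.card_perm, Nat.card_eq_fintype_card (α := Fin 7), Fintype.card_fin] at h1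
      rw [Nat.card_congr e.toEquiv]
      have : Nat.factorial 7 = 5040 := by decide
      omega
    have e2 := od_index L.subtype L.subtype_injective (u := ⟨τ, hτL⟩) one
    have e3 : (cl τ).ncard ∣ 2520 := e1 ▸ e2 ▸ index_dvd_card _
    have e4 := (tt_top h.two).card_grp trivial trivial h.hab
    rw [top_inf_eq, card_top, Set.ncard_univ, h.cardK] at e4
    have e5 := Nat.le_of_dvd (by norm_num) e3
    have e6 := Nat.odd_iff.1 (h.od_oddF ho)
    generalize (fixedBy Ω τ).ncard = i at *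
    generalize (cl τ).ncard = D at *
    have key : ((γ = 3 ∧ Nat.card Ω = 15) ∨ (γ = 15 ∧ Nat.card Ω = 7)) := by
      rcases hc with ⟨e7, e8, e9⟩ | ⟨e7, e8, e9⟩
      · have : i ≤ 15 := by nlinarith
        refine Or.inl ⟨e7, ?_⟩
        have := e9 ▸ Int.natCast_dvd_natCast.2 e3
        interval_cases i <;> omega
      · have : i ≤ 19 := by nlinarith
        refine Or.inr ⟨e7, ?_⟩
        have := e9 ▸ mul_dvd_mul_left 3 (Int.natCast_dvd_natCast.2 e3)
        interval_cases i <;> omega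
    refine ⟨key, ⟨?_⟩⟩
    have e7 : L = ⊤ := eq_top_of_card_eq _ (by
      rcases key with ⟨rfl, e8⟩ | ⟨rfl, e8⟩ <;> rw [e8] at e4 <;> omega)
    exact (topEquiv.symm.trans (MulEquiv.subgroupCongr e7.symm)).trans e

end AH

end CfsgLib.Kim
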