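import Mathlib
import Cfsg.Agent.Lib.Kim.AH1
import Cfsg.Agent.Lib.ZStar.Main
import Cfsg.Agent.Lib.Kim.AHO2

/-! PERM3 / S3219, S3262: odd degree. -/

set_option autoImplicit false

namespace CfsgLib.Kim.AH

open Subgroup MulAction CfsgLib.Perm

variable {G : Type*} {Ω : Type*} [Group G] [MulAction G Ω] [Finite G] [Finite Ω]
  {a b : Ω} {τ v : G} {γ : ℕ}

theorem odd (h : AH a b τ v γ) (ho : Odd (Nat.card Ω)) :
    (((γ = 3 ∧ Nat.card Ω = 15) ∨ (γ = 15 ∧ Nat.card Ω = 7)) ∧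
      Nonempty (G ≃* alternatingGroup (Fin 7))) ∨
    ∃ J : G, orderOf J = 2 ∧ (∃ c : Ω, centralizer ({J} : Set G) ≤ stabilizer G c) ∧
      centralizer ({J} : Set G) ⊔ Cfsg.oddCore G = ⊤ := by
  have key : (fixedBy Ω τ).ncard = (fixedBy Ω τ ∩ fixedBy Ω v).ncard →
      ∀ x ∈ fixedBy Ω τ, v • x = x := fun e x hx =>
    ((Set.eq_of_subset_of_ncard_le Set.inter_subset_left e.le).symm ▸ hx :
      x ∈ fixedBy Ω τ ∩ fixedBy Ω v).2
  rcases h.typ with ⟨I, hI, ha, hb, hK⟩ | hY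
  · refine Or.inr (h.od_case0 ho hI ha hb hK fun hn => ?_)
    by_cases e : (fixedBy Ω τ).ncard = (fixedBy Ω τ ∩ fixedBy Ω v).ncard
    · exact h.od_noC ho (key e) hn ha (hK τ h.τK) (hK v h.vK)
    · exact h.od_case2 ho e ha hb hK hn
  · by_cases e : (fixedBy Ω τ).ncard = (fixedBy Ω τ ∩ fixedBy Ω v).ncard
    · exact Or.inl (h.od_case1 ho (key e) hY)
    · exact (h.od_case3 ho e hY).elim

end CfsgLib.Kim.AH
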